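import Groth.Agent.Lib.REq15.Proj
import Groth.Agent.Lib.Grass.ProjPts
import Groth.Agent.Lib.ProjSpace.BaseChange

/-!
# Rational points of the projective line and their normal position
-/

universe u

set_option autoImplicit false
set_option backward.isDefEq.respectTransparency false
set_option backward.isDefEq.respectTransparency.types false

open CategoryTheory CategoryTheory.Limits AlgebraicGeometry MvPolynomial HomogeneousLocalization

namespace Groth.Agent.EssDim28

open Groth.Agent.ProjSpace Groth.Agent.GrassLib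

variable {R : Type u} [CommRing R] {L : Type u} [Field L] [Algebra R L]

/-- the coordinates of a standard point -/
def unitVec (L : Type u) [Field L] (t : Fin 2) : Fin 2 → L := fun r => if r = t then 1 else 0

theorem vecMor_mem_basicOpen {A : Type u} [CommRing A] [Algebra R A] {d : ℕ} (s : Fin (d + 1))
    (ℓ : MvPolynomial (Fin (d + 1)) R) (hℓ : ℓ ∈ CohB1.polyGrading d R 1) (F : Fin (d + 1) → A)
    (hs : F s = 1) (q : PrimeSpectrum A) :
    vecMor (R := R) s F q ∈ Proj.basicOpen (CohB1.polyGrading d R) ℓ ↔ aeval F ℓ ∉ q.asIdeal := by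
  rw [vecMor_eq_awayHom, Scheme.Hom.comp_apply]
  change Spec.map (CommRingCat.ofHom (awayHom (R := R) s F)) q ∈
    (Proj.awayι (CohB1.polyGrading d R) (X s) (X_mem' d R s) Nat.one_pos) ⁻¹ᵁ
      Proj.basicOpen (CohB1.polyGrading d R) ℓ ↔ _
  rw [Proj.awayι_preimage_basicOpen _ (X_mem' d R s) Nat.one_pos hℓ Nat.one_pos]
  show awayHom s F (Away.isLocalizationElem (X_mem' d R s) hℓ) ∉ q.asIdeal ↔ _
  rw [Away.isLocalizationElem, show (Away.mk (CohB1.polyGrading d R) (X_mem' d R s) 1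
      ((ℓ : MvPolynomial (Fin (d + 1)) R) ^ 1) _) = _ from rfl, awayHom_mk s F hs]
  simp

variable (R) in
/-- the standard point -/
noncomputable def stdPt (L : Type u) [Field L] [Algebra R L] (t : Fin 2) :
    Spec (CommRingCat.of L) ⟶ CohB1.ProjSpace 1 R :=
  vecMor (R := R) t (unitVec L t)

theorem stdPt_toSpec (t : Fin 2) :
    stdPt R L t ≫ CohB1.ProjSpace.toSpec 1 R = Spec.map (CommRingCat.ofHom (algebraMap R L)) :=
  vecMor_toSpec t _

theorem mem_stdPt (t : Fin 2) (z : PrimeSpectrum L) :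
    stdPt R L t z ∈ Proj.basicOpen (CohB1.polyGrading 1 R) (X t) := by
  rw [stdPt, vecMor_mem_basicOpen t (X t) (X_mem' 1 R t) _ (by simp [unitVec]) z, aeval_X]
  simpa [unitVec] using fun h => z.2.ne_top ((Ideal.eq_top_iff_one _).2 h)

theorem notMem_stdPt {s t : Fin 2} (h : s ≠ t) (z : PrimeSpectrum L) :
    stdPt R L t z ∉ Proj.basicOpen (CohB1.polyGrading 1 R) (X s) := by
  rw [stdPt, vecMor_mem_basicOpen t (X s) (X_mem' 1 R s) _ (by simp [unitVec]) z, aeval_X]
  simp [unitVec, h]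

/-- a point in the chart `t` is given by coordinates -/
theorem exists_vecMor (σ : Spec (CommRingCat.of L) ⟶ CohB1.ProjSpace 1 R)
    (hσ : σ ≫ CohB1.ProjSpace.toSpec 1 R = Spec.map (CommRingCat.ofHom (algebraMap R L))) (t : Fin 2)
    (ht : σ (IsLocalRing.closedPoint L) ∈ Proj.basicOpen (CohB1.polyGrading 1 R) (X t)) :
    ∃ F : Fin 2 → L, F t = 1 ∧ σ = vecMor (R := R) t F := by
  have hr : Set.range σ ⊆ Set.range (ProjSpace.chart 1 R t) := by
    rintro _ ⟨z, rfl⟩
    obtain rfl : z = IsLocalRing.closedPoint L := Subsingleton.elim (α := PrimeSpectrum L) _ _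
    rw [← Scheme.Hom.coe_opensRange, ProjSpace.opensRange_chart]
    exact ht
  obtain ⟨g, hg⟩ := Spec.map_surjective (IsOpenImmersion.lift (ProjSpace.chart 1 R t) σ hr)
  have hC : CommRingCat.ofHom C ≫ g = CommRingCat.ofHom (algebraMap R L) := by
    apply Spec.map_injective
    rw [Spec.map_comp, hg, ← ProjSpace.chart_toSpec, IsOpenImmersion.lift_fac_assoc, hσ]
  refine ⟨fun r => if h : r = t then 1 else g.hom (X ⟨r, h⟩), by simp, ?_⟩
  have he : g = CommRingCat.ofHom (MvPolynomial.aeval fun r : {r : Fin 2 // r ≠ t} =>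
      (if h : r.1 = t then (1 : L) else g.hom (X ⟨r.1, h⟩))).toRingHom := by
    ext1
    refine MvPolynomial.ringHom_ext (fun r => ?_) fun r => ?_
    · simpa using RingHom.congr_fun (congrArg CommRingCat.Hom.hom hC) r
    · simp [r.2]
  rw [vecMor, GrassLib.sp, ← he, hg, IsOpenImmersion.lift_fac]

/-- a point outside one chart is a standard point -/
theorem eq_stdPt {s t : Fin 2} (hst : s ≠ t) (σ : Spec (CommRingCat.of L) ⟶ CohB1.ProjSpace 1 R)
    (hσ : σ ≫ CohB1.ProjSpace.toSpec 1 R = Spec.map (CommRingCat.ofHom (algebraMap R L)))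
    (hs : σ (IsLocalRing.closedPoint L) ∉ Proj.basicOpen (CohB1.polyGrading 1 R) (X s)) :
    σ = stdPt R L t := by
  obtain ⟨i, hi⟩ := ProjSpace.exists_mem_chart 1 R (σ (IsLocalRing.closedPoint L))
  rw [ProjSpace.opensRange_chart] at hi
  have hit : i = t := by
    by_contra h
    have : i = s := by omega
    exact hs (this ▸ hi)
  subst hit
  obtain ⟨F, hF, rfl⟩ := exists_vecMor σ hσ i hi
  rw [vecMor_mem_basicOpen i (X s) (X_mem' 1 R s) F hF, aeval_X, not_not] at hs
  have h0 : F s = 0 := by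
    by_contra h
    exact (IsLocalRing.closedPoint L).2.ne_top (Ideal.eq_top_of_isUnit_mem _ hs (Ne.isUnit h))
  rw [stdPt]
  congr 1
  funext r
  by_cases h : r = i
  · subst h; simp [unitVec, hF]
  · have : r = s := by omega
    subst this; simp [unitVec, h, h0]

section Field

variable {K : Type u} [Field K] [Algebra K L]

/-- standard points base change to standard points -/
theorem stdPt_map (t : Fin 2) :
    stdPt L L t ≫ ProjSpace.map 1 (algebraMap K L) =
      Spec.map (CommRingCat.ofHom (algebraMap K L)) ≫ stdPt K K t := by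
  obtain ⟨s, hst⟩ : ∃ s : Fin 2, s ≠ t := exists_ne t
  refine (eq_stdPt (R := K) (L := L) hst _ ?_ ?_).trans (eq_stdPt (R := K) (L := L) hst _ ?_ ?_).symm
  · rw [Category.assoc, (ProjSpace.isPullback_map 1 (algebraMap K L)).w, ← Category.assoc, stdPt_toSpec,
      ← Spec.map_comp]
    rfl
  · intro h
    rw [Scheme.Hom.comp_apply] at h
    have h' : stdPt L L t (IsLocalRing.closedPoint L) ∈
        Proj.basicOpen (CohB1.polyGrading 1 L) (ProjSpace.mapHom 1 (algebraMap K L) (X s)) := h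
    rw [ProjSpace.mapHom_X] at h'
    exact notMem_stdPt hst _ h'
  · rw [Category.assoc, stdPt_toSpec, ← Spec.map_comp]
    rfl
  · intro h
    rw [Scheme.Hom.comp_apply] at h
    exact notMem_stdPt hst _ h

/-- the automorphisms used to move points -/
theorem exists_move {s t : Fin 2} (hst : s ≠ t) (σ : Spec (CommRingCat.of L) ⟶ CohB1.ProjSpace 1 L)
    (hσ : σ ≫ CohB1.ProjSpace.toSpec 1 L = 𝟙 _)
    (hs : σ (IsLocalRing.closedPoint L) ∈ Proj.basicOpen (CohB1.polyGrading 1 L) (X s)) :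
    ∃ m : CohB1.ProjSpace 1 L ⟶ CohB1.ProjSpace 1 L, IsIso m ∧
      m ≫ CohB1.ProjSpace.toSpec 1 L = CohB1.ProjSpace.toSpec 1 L ∧
      σ ≫ m = stdPt L L s ∧ stdPt L L t ≫ m = stdPt L L t := by
  have hid : Spec.map (CommRingCat.ofHom (algebraMap L L)) = 𝟙 _ := Spec.map_id (CommRingCat.of L)
  obtain ⟨F, hF, hσF⟩ := exists_vecMor σ (hσ.trans hid.symm) s hs
  let c : L := - F t
  let φ := REq15.shear (k := L) (n := 1) t s c
  let m : CohB1.ProjSpace 1 L ⟶ CohB1.ProjSpace 1 L := Proj.map φ (REq15.shear_irrelevant hst c)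
  have hm : m ≫ CohB1.ProjSpace.toSpec 1 L = CohB1.ProjSpace.toSpec 1 L := by
    refine Scheme.Cover.hom_ext (ProjSpace.cover 1 L) _ _ fun i => ?_
    show ProjSpace.chartP 1 L i.down ≫ m ≫ Proj.toSpecZero _ ≫
        Spec.map (CommRingCat.ofHom (algebraMap L (CohB1.polyGrading 1 L 0))) =
      ProjSpace.chartP 1 L i.down ≫ Proj.toSpecZero _ ≫
        Spec.map (CommRingCat.ofHom (algebraMap L (CohB1.polyGrading 1 L 0)))
    unfold ProjSpace.chartP
    simp only [Category.assoc]
    congr 1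
    let v : MvPolynomial (Fin (1 + 1)) L := REq15.shear (k := L) (n := 1) t s (-c) (X i.down)
    have hv : v ∈ CohB1.polyGrading 1 L 1 :=
      (REq15.shear (k := L) (n := 1) t s (-c)).2 (ProjSpace.X_mem' 1 L i.down)
    have key : ∀ (w : MvPolynomial (Fin (1 + 1)) L) (hw : w ∈ CohB1.polyGrading 1 L 1), φ v = w →
        Proj.awayι (CohB1.polyGrading 1 L) w hw Nat.one_pos ≫ m ≫ Proj.toSpecZero _ ≫
          Spec.map (CommRingCat.ofHom (algebraMap L (CohB1.polyGrading 1 L 0))) =
        Proj.awayι (CohB1.polyGrading 1 L) w hw Nat.one_pos ≫ Proj.toSpecZero _ ≫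
          Spec.map (CommRingCat.ofHom (algebraMap L (CohB1.polyGrading 1 L 0))) := by
      rintro w hw rfl
      rw [Proj.awayι_comp_map_assoc _ _ Nat.one_pos _ hv, Proj.awayι_toSpecZero_assoc,
        Proj.awayι_toSpecZero_assoc, ← Spec.map_comp, ← Spec.map_comp, ← Spec.map_comp,
        ← CommRingCat.ofHom_comp, ← CommRingCat.ofHom_comp, ← CommRingCat.ofHom_comp]
      congr 2
      ext r
      simp [fromZeroRingHom, Away.map, HomogeneousLocalization.map_mk, HomogeneousLocalization.val_mk,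
        φ, REq15.shear_C]
    exact key (X i.down) (ProjSpace.X_mem' 1 L i.down) (REq15.shear_comp_apply hst c (X i.down))
  refine ⟨m, REq15.isIso_map_shear hst c, hm, ?_, ?_⟩
  · refine eq_stdPt hst.symm _ (by rw [Category.assoc, hm, hσ, hid]) ?_
    intro h
    rw [Scheme.Hom.comp_apply] at h
    have h' : σ (IsLocalRing.closedPoint L) ∈ Proj.basicOpen (CohB1.polyGrading 1 L) (φ (X t)) := h
    rw [hσF] at h'
    have h'' := (vecMor_mem_basicOpen s _ (φ.2 (ProjSpace.X_mem' 1 L t)) F hF _).1 h'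
    have e : φ.toRingHom (X t : MvPolynomial (Fin (1 + 1)) L) = X t + C c * X s :=
      REq15.shear_X_self t s c
    rw [e] at h''
    simp [hF, c] at h''
  · refine eq_stdPt hst _ (by rw [Category.assoc, hm, stdPt_toSpec]) ?_
    intro h
    rw [Scheme.Hom.comp_apply] at h
    have h' : stdPt L L t (IsLocalRing.closedPoint L) ∈ Proj.basicOpen (CohB1.polyGrading 1 L) (φ (X s)) := h
    rw [REq15.shear_X_ne s c hst] at h'
    exact notMem_stdPt hst _ h'

/-- one or two distinct rational points can be moved to standard points -/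
theorem exists_normalize {n : ℕ} (hn : n ≤ 2) (σ : Fin n → (Spec (CommRingCat.of L) ⟶ CohB1.ProjSpace 1 L))
    (hσ : ∀ i, σ i ≫ CohB1.ProjSpace.toSpec 1 L = 𝟙 _)
    (hne : ∀ i j, i ≠ j → σ i (IsLocalRing.closedPoint L) ≠ σ j (IsLocalRing.closedPoint L)) :
    ∃ (m : CohB1.ProjSpace 1 L ⟶ CohB1.ProjSpace 1 L) (π : Fin n → Fin 2), IsIso m ∧ Function.Injective π ∧
      m ≫ CohB1.ProjSpace.toSpec 1 L = CohB1.ProjSpace.toSpec 1 L ∧ ∀ i, σ i ≫ m = stdPt L L (π i) := by
  have hid : Spec.map (CommRingCat.ofHom (algebraMap L L)) = 𝟙 _ := Spec.map_id (CommRingCat.of L)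
  have one : ∀ τ : Spec (CommRingCat.of L) ⟶ CohB1.ProjSpace 1 L, τ ≫ CohB1.ProjSpace.toSpec 1 L = 𝟙 _ →
      ∃ (m : CohB1.ProjSpace 1 L ⟶ CohB1.ProjSpace 1 L) (t : Fin 2), IsIso m ∧
        m ≫ CohB1.ProjSpace.toSpec 1 L = CohB1.ProjSpace.toSpec 1 L ∧ τ ≫ m = stdPt L L t := by
    intro τ hτ
    by_cases h : τ (IsLocalRing.closedPoint L) ∈ Proj.basicOpen (CohB1.polyGrading 1 L) (X (0 : Fin 2))
    · obtain ⟨m, h1, h2, h3, -⟩ := exists_move (s := 0) (t := 1) (by decide) τ hτ h
      exact ⟨m, 0, h1, h2, h3⟩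
    · exact ⟨𝟙 _, 1, inferInstance, Category.id_comp _,
        (Category.comp_id τ).trans (eq_stdPt (s := 0) (by decide) τ (hτ.trans hid.symm) h)⟩
  match n, hn, σ, hσ, hne with
  | 0, _, _, _, _ => exact ⟨𝟙 _, Fin.elim0, inferInstance, fun i => i.elim0, Category.id_comp _, fun i => i.elim0⟩
  | 1, _, σ, hσ, _ =>
    obtain ⟨m, t, h1, h2, h3⟩ := one (σ 0) (hσ 0)
    exact ⟨m, fun _ => t, h1, fun i j _ => Subsingleton.elim i j, h2, fun i => by
      rw [Subsingleton.elim i 0]; exact h3⟩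
  | 2, _, σ, hσ, hne =>
    obtain ⟨m, t, h1, h2, h3⟩ := one (σ 0) (hσ 0)
    obtain ⟨s, hst⟩ : ∃ s : Fin 2, s ≠ t := exists_ne t
    have hmem : (σ 1 ≫ m) (IsLocalRing.closedPoint L) ∈ Proj.basicOpen (CohB1.polyGrading 1 L) (X s) := by
      by_contra h
      have he : σ 1 ≫ m = σ 0 ≫ m :=
        (eq_stdPt hst _ (by rw [Category.assoc, h2, hσ, hid]) h).trans h3.symm
      haveI := h1
      exact hne 1 0 (by decide) (by rw [(cancel_mono m).1 he])
    obtain ⟨m', h1', h2', h3', h4'⟩ := exists_move hst (σ 1 ≫ m) (by rw [Category.assoc, h2, hσ]) hmem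
    refine ⟨m ≫ m', ![t, s], @IsIso.comp_isIso _ _ _ _ _ m m' h1 h1', ?_, by rw [Category.assoc, h2', h2], ?_⟩
    · intro i j
      fin_cases i <;> fin_cases j <;> simp [hst, Ne.symm hst]
    · intro i
      fin_cases i
      · exact (Category.assoc _ _ _).symm.trans ((congrArg (· ≫ m') h3).trans h4')
      · exact (Category.assoc _ _ _).symm.trans h3'

end Field

end Groth.Agent.EssDim28
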