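import Groth.Prelude.Def_EssDim
import Groth.Prelude.Def_StCurv
import Groth.Agent.Lib.EssDim28.P1Pts
import Groth.Agent.Lib.CurveCoh17.GenusBC
import Groth.Agent.Lib.FibDim4.Basic
import Groth.Agent.Lib.ShStab28.MuIso
import Groth.Agent.Lib.RegExt.P1
import Groth.Agent.Lib.CohFound.ProperFinite
import Groth.Agent.S6542
import Groth.Agent.S10829

/-!
# Essential dimension of the stacks of pointed curves of genus zero
-/

universe u

set_option autoImplicit false
set_option linter.style.haveILetI false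
set_option backward.isDefEq.respectTransparency false
set_option backward.isDefEq.respectTransparency.types false

open CategoryTheory CategoryTheory.Limits AlgebraicGeometry

namespace Groth.Agent.EssDim28

section Line

variable (K : Type u) [Field K]

theorem isCurveOfGenus_P1 : ModFun.IsCurveOfGenus 0 (CohB1.ProjSpace.toSpec 1 K) := by
  refine ⟨(ProjSpace.smoothOfRelativeDimension_toSpec 1 K).smooth, inferInstance, ⟨?_⟩, ?_⟩
  · intro F _ y Z fst snd h
    obtain ⟨f, rfl⟩ := Spec.map_surjective y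
    haveI : IsIntegral (CohB1.ProjSpace 1 F) := RegExt.isIntegral_projSpace 1 F
    let e : Z ≅ CohB1.ProjSpace 1 F := h.isoIsPullback _ _ (ProjSpace.isPullback_map 1 f.hom)
    haveI : IrreducibleSpace (CohB1.ProjSpace 1 F) := inferInstance
    have hirr := (IrreducibleSpace.isIrreducible_univ (CohB1.ProjSpace 1 F)).image _ e.inv.continuous.continuousOn
    have hs : Set.range ⇑e.inv = Set.univ := e.inv.homeomorph.surjective.range_eq
    rw [Set.image_univ, hs] at hirr
    exact irreducibleSpace_def _ |>.2 hirr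
  · intro Ω _ _ t X i q h
    obtain ⟨f, rfl⟩ := Spec.map_surjective t
    let e : X ≅ CohB1.ProjSpace 1 Ω := h.isoIsPullback _ _ (ProjSpace.isPullback_map 1 f.hom)
    have he : e.hom ≫ CohB1.ProjSpace.toSpec 1 Ω = q := h.isoIsPullback_hom_snd _ _ _
    refine ⟨?_, ?_⟩
    · rw [IsHomeomorph.topologicalKrullDim_eq _ e.hom.homeomorph.isHomeomorph, S10829.result Ω 1]
      rfl
    · letI : X.Over (Spec (CommRingCat.of Ω)) := ⟨q⟩
      letI : (CohB1.ProjSpace 1 Ω).Over (Spec (CommRingCat.of Ω)) := ⟨CohB1.ProjSpace.toSpec 1 Ω⟩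
      exact (CurveCoh17.genus_eq_of_iso e.hom he).trans (CurveCoh17.genus_P1 Ω)

variable {K}

/-- invariants of a curve read off from one geometric fibre -/
theorem invariants_of_fibre {X : Scheme.{u}} (f : X ⟶ Spec (CommRingCat.of K)) [IsProper f]
    (Ω : Type u) [Field Ω] [Algebra K Ω]
    (hd : topologicalKrullDim ↥(pullback f (Spec.map (CommRingCat.ofHom (algebraMap K Ω)))) = 1)
    (hg : @Curv2.genus Ω _ (pullback f (Spec.map (CommRingCat.ofHom (algebraMap K Ω))))
      ⟨pullback.snd f (Spec.map (CommRingCat.ofHom (algebraMap K Ω)))⟩ = 0) :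
    topologicalKrullDim X = 1 ∧
      (letI : X.Over (Spec (CommRingCat.of K)) := ⟨f⟩
       Subsingleton (Coh.HH X (Coh.structureModule X) 1)) := by
  letI : X.Over (Spec (CommRingCat.of K)) := ⟨f⟩
  haveI : IsProper (X ↘ Spec (CommRingCat.of K)) := ‹IsProper f›
  let g := Spec.map (CommRingCat.ofHom (algebraMap K Ω))
  refine ⟨?_, ?_⟩
  · rw [← FibDim4.topologicalKrullDim_eq_of_isPullback (CommRingCat.ofHom (algebraMap K Ω)) (Field.toIsField K)
      (Field.toIsField Ω) f (pullback.fst f g) (pullback.snd f g) (IsPullback.of_hasPullback f g)]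
    exact hd
  haveI : CompactSpace X := QuasiCompact.compactSpace_of_compactSpace f
  haveI : QuasiSeparatedSpace X := quasiSeparatedSpace_of_quasiSeparated f
  letI : (pullback f g).Over (Spec (CommRingCat.of Ω)) := ⟨pullback.snd f g⟩
  have hpb : IsPullback (pullback.fst f g) ((pullback f g) ↘ Spec (CommRingCat.of Ω))
      (X ↘ Spec (CommRingCat.of K)) (Spec.map (CommRingCat.ofHom (algebraMap K Ω))) :=
    IsPullback.of_hasPullback f g
  have h0 : Module.finrank K (Coh.HH X (Coh.structureModule X) 1) = 0 := by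
    unfold Curv2.genus at hg
    rw [← CurveCoh17.finrank_HH_of_isPullback hpb 1]
    exact hg
  haveI := VB17.isNoetherian_of_over (k := K) (X := X)
  haveI := CohFound.finite_HH_of_isProper (A := K) (Coh.structureModule X) (M1.isCoh_structureModule X) 1
  exact Module.finrank_zero_iff.1 h0

/-- a genus zero curve over a field with a rational point is the line -/
theorem exists_iso_line {X : Scheme.{u}} (f : X ⟶ Spec (CommRingCat.of K)) (hf : ModFun.IsCurveOfGenus 0 f)
    (σ : Spec (CommRingCat.of K) ⟶ X) (hσ : σ ≫ f = 𝟙 _) :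
    ∃ e : X ≅ CohB1.ProjSpace 1 K, e.hom ≫ CohB1.ProjSpace.toSpec 1 K = f := by
  obtain ⟨hsm, hpr, hgi, hfib⟩ := hf
  letI : X.Over (Spec (CommRingCat.of K)) := ⟨f⟩
  haveI : IsProper (X ↘ Spec (CommRingCat.of K)) := hpr
  haveI : Smooth (X ↘ Spec (CommRingCat.of K)) := hsm
  haveI : GeometricallyIrreducible (X ↘ Spec (CommRingCat.of K)) := hgi
  haveI : GeometricallyConnected (X ↘ Spec (CommRingCat.of K)) := ⟨fun F _ y Z fst snd h => by
    haveI := GeometricallyIrreducible.geometrically_irreducibleSpace (f := X ↘ Spec (CommRingCat.of K)) y fst snd h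
    infer_instance⟩
  haveI : IsIntegral X := VB17.isIntegral_of_smooth (k := K)
  obtain ⟨hd, hg⟩ := hfib (AlgebraicClosure K) (Spec.map (CommRingCat.ofHom (algebraMap K (AlgebraicClosure K))))
    _ _ _ (IsPullback.of_hasPullback f (Spec.map (CommRingCat.ofHom (algebraMap K (AlgebraicClosure K)))))
  haveI : IsProper f := hpr
  obtain ⟨hdim, h1⟩ := invariants_of_fibre f (AlgebraicClosure K) hd hg
  obtain ⟨hc, hr⟩ := CurveCoh17.section_point_props (k := K) σ hσ
  have hN := ShStab28.isNormalScheme_of_smooth (k := K) (X := X)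
  exact S6542.result K X hdim h1 {σ (IsLocalRing.closedPoint K)}
    (fun x hx => Finset.mem_singleton.1 hx ▸ hc) (fun x _ => (hN x).2)
    (by rw [Finset.gcd_singleton]; simp [hr])

end Line

section Stack

variable {k : Type u} [Field k] {n : ℕ}

/-- the line with standard marked points -/
noncomputable def lineObj (K : Type u) [Field K] [Algebra k K] (π : Fin n → Fin 2) (hπ : Function.Injective π) :
    (CurvSt.Mgn (Spec (CommRingCat.of k)) 0 n).obj :=
  ⟨{ base := SGA7.pt (K := k) K
     C := CohB1.ProjSpace 1 K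
     f := CohB1.ProjSpace.toSpec 1 K
     sect := fun i => stdPt K K (π i)
     sect_f := fun i => (stdPt_toSpec (R := K) (L := K) (π i)).trans (Spec.map_id (CommRingCat.of K)) },
   isCurveOfGenus_P1 K, fun i j hij c h => by
    have h1 := mem_stdPt (R := K) (L := K) (π i) c
    have h' : stdPt K K (π i) c = stdPt K K (π j) c := h
    rw [h'] at h1
    exact notMem_stdPt (hπ.ne hij) c h1⟩

theorem edSt_mgn_genus_zero (n : ℕ) (hn : n ≤ 2) (hn0 : 0 < n)
    [FibCat.IsFibGrpd (CurvSt.Mgn (Spec (CommRingCat.of k)) 0 n).p] :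
    EssDim.edSt (CurvSt.Mgn (Spec (CommRingCat.of k)) 0 n) = 0 := by
  apply le_antisymm
  · refine iSup_le fun L => iSup_le fun _ => iSup_le fun _ => iSup_le fun ξ => ?_
    obtain ⟨⟨⟨A, hA⟩, hbase⟩, rfl⟩ := Quot.exists_rep ξ
    obtain ⟨base, C, f, sect, sect_f⟩ := A
    change base = SGA7.pt (K := k) L at hbase
    subst hbase
    obtain ⟨hcurve, hdisj⟩ := hA
    obtain ⟨e, he⟩ := exists_iso_line (K := L) f hcurve (sect ⟨0, hn0⟩) (sect_f _)
    have hne : ∀ i j, i ≠ j →
        (sect i ≫ e.hom) (IsLocalRing.closedPoint L) ≠ (sect j ≫ e.hom) (IsLocalRing.closedPoint L) := by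
      intro i j hij h
      rw [Scheme.Hom.comp_apply, Scheme.Hom.comp_apply] at h
      exact hdisj i j hij (IsLocalRing.closedPoint L) (e.hom.homeomorph.injective h)
    obtain ⟨m, π, hm, hπ, hmS, hσ⟩ := exists_normalize hn (fun i => sect i ≫ e.hom)
      (fun i => (Category.assoc _ _ _).trans ((congrArg (sect i ≫ ·) he).trans (sect_f i))) hne
    let K : IntermediateField k L := ⊥
    haveI := hm
    have hcart : IsPullback ((e.hom ≫ m) ≫ ProjSpace.map 1 (algebraMap K L)) f (CohB1.ProjSpace.toSpec 1 K)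
        (EssDim.resPt K.val).left := by
      have h1 : IsPullback (e.hom ≫ m) f (CohB1.ProjSpace.toSpec 1 L) (𝟙 _) :=
        IsPullback.of_horiz_isIso ⟨by rw [Category.assoc, hmS, he, Category.comp_id]⟩
      have h2 := h1.paste_horiz (ProjSpace.isPullback_map 1 (algebraMap K L))
      rw [Category.id_comp] at h2
      exact h2
    let B := lineObj (k := k) K π hπ
    let A₀ : (CurvSt.Mgn (Spec (CommRingCat.of k)) 0 n).obj :=
      ⟨⟨SGA7.pt (K := k) L, C, f, sect, sect_f⟩, hcurve, hdisj⟩
    let φ : A₀ ⟶ B := ObjectProperty.homMk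
      (X := A₀) (Y := B)
      { base := EssDim.resPt K.val
        top := (e.hom ≫ m) ≫ ProjSpace.map 1 (algebraMap K L)
        cart := hcart
        w_sect := fun i => by
          change sect i ≫ (e.hom ≫ m) ≫ ProjSpace.map 1 (algebraMap K L) =
            (EssDim.resPt K.val).left ≫ stdPt K K (π i)
          rw [← Category.assoc, ← Category.assoc (sect i), hσ i]
          exact stdPt_map (π i) }
    have hlift : (CurvSt.Mgn (Spec (CommRingCat.of k)) 0 n).p.IsHomLift (EssDim.resPt K.val) φ :=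
      IsHomLift.map (CurvSt.Mgn (Spec (CommRingCat.of k)) 0 n).p φ
    refine (WithBot.coe_le_coe.mpr (EssDim.edAt_le_of_descends
      ((EssDim.descends_isoCl_iff _ ⟨A₀, rfl⟩ K).2 ⟨⟨B, rfl⟩, φ, hlift⟩))).trans ?_
    haveI : Algebra.IsAlgebraic k K := Algebra.IsAlgebraic.of_finite k _
    rw [trdeg_eq_zero, map_zero]
    rfl
  · let π : Fin n → Fin 2 := fun i => ⟨i.1, lt_of_lt_of_le i.2 hn⟩
    have hπ : Function.Injective π := fun i j h => Fin.ext (Fin.mk.inj h)
    refine le_trans ?_ (EssDim.edAt_le_ed (P := Gerb.isoClPsh (CurvSt.Mgn (Spec (CommRingCat.of k)) 0 n)) (L := k)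
      (Quot.mk _ ⟨lineObj (k := k) k π hπ, rfl⟩))
    exact WithBot.coe_le_coe.mpr bot_le

end Stack

end Groth.Agent.EssDim28
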