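import Mathlib.AlgebraicGeometry.Sites.Fpqc
import Mathlib.AlgebraicGeometry.PullbackCarrier
import Mathlib.LinearAlgebra.TensorProduct.Basis
import Mathlib.FieldTheory.IsAlgClosed.Basic
import Mathlib.RingTheory.Artinian.Ring

/-!
# Descent of points with values in a finite algebra over the intersection of two fields
-/

universe u

set_option autoImplicit false
set_option linter.style.haveILetI false
set_option backward.isDefEq.respectTransparency false

open CategoryTheory CategoryTheory.Limits AlgebraicGeometry TensorProduct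

namespace Groth.Agent.EssDim28

variable (F L E Ω : Type u) [Field F] [Field L] [Field E] [Field Ω]
  [Algebra F L] [Algebra F E] [Algebra F Ω] [Algebra L Ω] [Algebra E Ω]
  [IsScalarTower F L Ω] [IsScalarTower F E Ω]

variable (R : Type u) [CommRing R] [Algebra F R]

/-- change of the field of coefficients -/
noncomputable def coefMap : (L ⊗[F] R) →ₐ[F] (Ω ⊗[F] R) :=
  Algebra.TensorProduct.map (IsScalarTower.toAlgHom F L Ω) (AlgHom.id F R)

variable {F L E Ω R}

theorem coefMap_tmul (l : L) (r : R) : coefMap F L Ω R (l ⊗ₜ r) = algebraMap L Ω l ⊗ₜ r := rfl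

theorem repr_coefMap {ι : Type u} (b : Module.Basis ι F R) (a : L ⊗[F] R) (i : ι) :
    (b.baseChange Ω).repr (coefMap F L Ω R a) i = algebraMap L Ω ((b.baseChange L).repr a i) := by
  induction a using TensorProduct.induction_on with
  | zero => simp
  | tmul l r =>
    rw [coefMap_tmul, Module.Basis.baseChange_repr_tmul, Module.Basis.baseChange_repr_tmul,
      Algebra.smul_def, Algebra.smul_def, map_mul, ← IsScalarTower.algebraMap_apply]
  | add x y hx hy => simp only [map_add, Finsupp.add_apply, hx, hy]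

theorem coefMap_injective : Function.Injective (coefMap F L Ω R) := by
  intro a a' h
  let b := Module.Free.chooseBasis F R
  apply (b.baseChange L).repr.injective
  ext i
  apply (algebraMap L Ω).injective
  rw [← repr_coefMap b, ← repr_coefMap b, h]

/-- a tensor with coefficients in both of two fields has them in their intersection -/
theorem exists_of_coefMap_eq
    (hLE : ∀ (a : L) (b : E), algebraMap L Ω a = algebraMap E Ω b → a ∈ Set.range (algebraMap F L))
    (a : L ⊗[F] R) (a' : E ⊗[F] R) (h : coefMap F L Ω R a = coefMap F E Ω R a') :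
    ∃ r : R, (1 : L) ⊗ₜ[F] r = a := by
  let b := Module.Free.chooseBasis F R
  have hc : ∀ i, (b.baseChange L).repr a i ∈ Set.range (algebraMap F L) := fun i =>
    hLE _ ((b.baseChange E).repr a' i) (by rw [← repr_coefMap b, ← repr_coefMap b, h])
  choose c hc using hc
  refine ⟨b.repr.symm (Finsupp.ofSupportFinite c ((Finset.finite_toSet
    ((b.baseChange L).repr a).support).subset fun i hi => ?_)), ?_⟩
  · rw [Finset.mem_coe, Finsupp.mem_support_iff, ← hc i]
    exact fun h0 => hi ((algebraMap F L).injective (by rw [h0, map_zero]))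
  · apply (b.baseChange L).repr.injective
    ext i
    rw [Module.Basis.baseChange_repr_tmul, LinearEquiv.apply_symm_apply, Algebra.smul_def, mul_one]
    exact hc i

theorem comap_surjective [Module.Finite F R] :
    Function.Surjective (PrimeSpectrum.comap (coefMap F L Ω R).toRingHom) := by
  haveI : IsArtinianRing (L ⊗[F] R) := IsArtinianRing.of_finite L _
  intro q
  obtain ⟨Q, hQ, -, hQq⟩ := Ideal.exists_comap_eq_of_mem_minimalPrimes
    (coefMap F L Ω R).toRingHom (I := ⊥) q.asIdeal (by
      rw [Ideal.comap_bot_of_injective (coefMap F L Ω R).toRingHom coefMap_injective]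
      exact Ring.KrullDimLE.mem_minimalPrimes_iff.2 ⟨q.2, bot_le⟩)
  exact ⟨⟨Q, hQ⟩, PrimeSpectrum.ext hQq⟩

theorem comap_injective [IsAlgClosed E] [Module.Finite F R] :
    Function.Injective (PrimeSpectrum.comap (coefMap F E Ω R).toRingHom) := by
  haveI : IsArtinianRing (E ⊗[F] R) := IsArtinianRing.of_finite E _
  intro Q Q' h
  set q := PrimeSpectrum.comap (coefMap F E Ω R).toRingHom Q with hq
  haveI : q.asIdeal.IsMaximal := IsArtinianRing.isMaximal_of_isPrime q.asIdeal
  letI := Ideal.Quotient.field q.asIdeal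
  have hsurj : Function.Surjective (algebraMap E ((E ⊗[F] R) ⧸ q.asIdeal)) :=
    IsAlgClosed.algebraMap_bijective_of_isIntegral.2
  have key : ∀ y : Ω ⊗[F] R, ∃ c : Ω, y - c ⊗ₜ 1 ∈ Q.asIdeal ∧ y - c ⊗ₜ 1 ∈ Q'.asIdeal := by
    intro y
    induction y using TensorProduct.induction_on with
    | zero => exact ⟨0, by simp, by simp⟩
    | tmul ω r =>
      obtain ⟨e, he⟩ := hsurj (Ideal.Quotient.mk _ ((1 : E) ⊗ₜ r))
      have hm : (1 : E) ⊗ₜ[F] r - e ⊗ₜ 1 ∈ q.asIdeal := by
        rw [← Ideal.Quotient.eq]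
        exact he.symm
      have he' : ω ⊗ₜ[F] r - (ω * algebraMap E Ω e) ⊗ₜ 1 =
          (ω ⊗ₜ 1) * coefMap F E Ω R ((1 : E) ⊗ₜ r - e ⊗ₜ 1) := by
        rw [map_sub, coefMap_tmul, coefMap_tmul, mul_sub, Algebra.TensorProduct.tmul_mul_tmul,
          Algebra.TensorProduct.tmul_mul_tmul, map_one, mul_one, one_mul, mul_one]
      refine ⟨ω * algebraMap E Ω e, ?_, ?_⟩
      · rw [he']; exact Ideal.mul_mem_left _ _ hm
      · rw [he']; refine Ideal.mul_mem_left _ _ ?_
        rw [h] at hm
        exact hm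
    | add x y hx hy =>
      obtain ⟨c, hc1, hc2⟩ := hx
      obtain ⟨d, hd1, hd2⟩ := hy
      refine ⟨c + d, ?_, ?_⟩
      · rw [add_tmul, add_sub_add_comm]; exact add_mem hc1 hd1
      · rw [add_tmul, add_sub_add_comm]; exact add_mem hc2 hd2
  have hu : ∀ (P : PrimeSpectrum (Ω ⊗[F] R)) (y : Ω ⊗[F] R) (c : Ω), y - c ⊗ₜ 1 ∈ P.asIdeal →
      (y ∈ P.asIdeal ↔ c = 0) := by
    intro P y c hm
    refine ⟨fun hy => ?_, fun hc => by simpa [hc] using hm⟩
    by_contra hc
    have h1 : c ⊗ₜ[F] (1 : R) ∈ P.asIdeal := by simpa using sub_mem hy hm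
    exact P.2.ne_top (Ideal.eq_top_of_isUnit_mem _ h1
      ((Ne.isUnit hc).map (Algebra.TensorProduct.includeLeftRingHom : Ω →+* Ω ⊗[F] R)))
  ext y
  obtain ⟨c, hc1, hc2⟩ := key y
  rw [hu Q y c hc1, hu Q' y c hc2]

theorem subsingleton_spec [IsLocalRing R] [Module.Finite F R] [IsAlgClosed E]
    (hLE : ∀ (a : L) (b : E), algebraMap L Ω a = algebraMap E Ω b → a ∈ Set.range (algebraMap F L)) :
    Subsingleton (PrimeSpectrum (L ⊗[F] R)) := by
  haveI : IsArtinianRing (L ⊗[F] R) := IsArtinianRing.of_finite L _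
  haveI : IsArtinianRing (E ⊗[F] R) := IsArtinianRing.of_finite E _
  refine ⟨fun P P' => ?_⟩
  obtain ⟨e, he, hD⟩ := PrimeSpectrum.exists_idempotent_basicOpen_eq_of_isClopen (isClopen_discrete ({P} : Set _))
  let eΩ := coefMap F L Ω R e
  let ψ := PrimeSpectrum.comap (coefMap F E Ω R).toRingHom
  obtain ⟨e', he', hD'⟩ := PrimeSpectrum.exists_idempotent_basicOpen_eq_of_isClopen
    (isClopen_discrete (ψ '' (PrimeSpectrum.basicOpen eΩ : Set _)))
  have heq : coefMap F E Ω R e' = eΩ := by
    refine PrimeSpectrum.basicOpen_injOn_isIdempotentElem (he'.map _) (he.map _) (SetLike.ext' ?_)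
    have h1 : (PrimeSpectrum.basicOpen (coefMap F E Ω R e') : Set (PrimeSpectrum (Ω ⊗[F] R))) =
        ψ ⁻¹' (PrimeSpectrum.basicOpen e' : Set _) := rfl
    rw [h1, ← hD', Set.preimage_image_eq _ comap_injective]
  obtain ⟨r, hr⟩ := exists_of_coefMap_eq hLE e e' heq.symm
  have hri : IsIdempotentElem r := by
    have h2 : (1 : L) ⊗ₜ[F] (r * r) = (1 : L) ⊗ₜ r := by
      rw [hr]
      conv_rhs => rw [← he.eq, ← hr, Algebra.TensorProduct.tmul_mul_tmul, one_mul]
    exact Algebra.TensorProduct.includeRight_injective (algebraMap F L).injective h2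
  have h01 : r = 0 ∨ r = 1 := by
    rcases IsLocalRing.isUnit_or_isUnit_one_sub_self r with hu | hu
    · exact Or.inr (hu.mul_left_cancel (by rw [hri.eq, mul_one]))
    · exact Or.inl (hu.mul_left_cancel (by rw [sub_mul, one_mul, hri.eq, sub_self, mul_zero]))
  rcases h01 with h0 | h1
  · have h3 : P ∈ (PrimeSpectrum.basicOpen e : Set _) := hD ▸ Set.mem_singleton P
    rw [← hr, h0, tmul_zero] at h3
    simp at h3
  · have h3 : P' ∈ (PrimeSpectrum.basicOpen e : Set _) := by
      rw [← hr, h1, ← Algebra.TensorProduct.one_def]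
      simp
    rw [← hD] at h3
    exact h3.symm

section Scheme

/-- descent of a point, for a local algebra -/
theorem exists_factor_local [IsLocalRing R] [Module.Finite F R] [IsAlgClosed E]
    (hLE : ∀ (a : L) (b : E), algebraMap L Ω a = algebraMap E Ω b → a ∈ Set.range (algebraMap F L))
    {X : Scheme.{u}} (x : Spec (.of (L ⊗[F] R)) ⟶ X) (y : Spec (.of (E ⊗[F] R)) ⟶ X)
    (h : Spec.map (CommRingCat.ofHom (coefMap F L Ω R).toRingHom) ≫ x =
      Spec.map (CommRingCat.ofHom (coefMap F E Ω R).toRingHom) ≫ y) :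
    ∃ x' : Spec (.of R) ⟶ X,
      Spec.map (CommRingCat.ofHom (Algebra.TensorProduct.includeRight : R →ₐ[F] L ⊗[F] R).toRingHom) ≫ x' = x := by
  haveI := subsingleton_spec (R := R) hLE
  haveI : Nontrivial (L ⊗[F] R) :=
    (Algebra.TensorProduct.includeRight_injective (B := R) (algebraMap F L).injective).nontrivial
  let P : Spec (.of (L ⊗[F] R)) := Classical.arbitrary (PrimeSpectrum (L ⊗[F] R))
  obtain ⟨V, hV, hPV, -⟩ := exists_isAffineOpen_mem_and_subset (U := (⊤ : X.Opens)) (x := x P) trivial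
  have hx : Set.range x ⊆ Set.range hV.fromSpec := by
    rw [hV.range_fromSpec]
    rintro _ ⟨Q, rfl⟩
    rw [@Subsingleton.elim (PrimeSpectrum (L ⊗[F] R)) inferInstance Q P]
    exact hPV
  have hy : Set.range y ⊆ Set.range hV.fromSpec := by
    rintro _ ⟨q, rfl⟩
    obtain ⟨Q, rfl⟩ := comap_surjective (L := E) (Ω := Ω) (R := R) q
    have h1 : x (PrimeSpectrum.comap (coefMap F L Ω R).toRingHom Q) =
        y (PrimeSpectrum.comap (coefMap F E Ω R).toRingHom Q) :=
      congr($h Q)
    rw [← h1]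
    exact hx ⟨_, rfl⟩
  obtain ⟨f, hf⟩ := Spec.map_surjective (IsOpenImmersion.lift hV.fromSpec x hx)
  obtain ⟨g, hg⟩ := Spec.map_surjective (IsOpenImmersion.lift hV.fromSpec y hy)
  have hfg : f ≫ CommRingCat.ofHom (coefMap F L Ω R).toRingHom =
      g ≫ CommRingCat.ofHom (coefMap F E Ω R).toRingHom := by
    apply Spec.map_injective
    rw [Spec.map_comp, Spec.map_comp, ← cancel_mono hV.fromSpec, Category.assoc, Category.assoc,
      hf, hg, IsOpenImmersion.lift_fac, IsOpenImmersion.lift_fac, h]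
  let inr : R →+* L ⊗[F] R := (Algebra.TensorProduct.includeRight : R →ₐ[F] L ⊗[F] R).toRingHom
  have hinj : Function.Injective inr := Algebra.TensorProduct.includeRight_injective (algebraMap F L).injective
  have hmem : ∀ a, f.hom a ∈ inr.range := fun a => by
    obtain ⟨r, hr⟩ := exists_of_coefMap_eq hLE (f.hom a) (g.hom a) (RingHom.congr_fun (congrArg CommRingCat.Hom.hom hfg) a)
    exact ⟨r, hr⟩
  let f' : Γ(X, V) →+* R :=
    ((RingEquiv.ofBijective inr.rangeRestrict
      ⟨fun a b hab => hinj (congrArg Subtype.val hab), inr.rangeRestrict_surjective⟩).symm : inr.range →+* R).comp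
      (f.hom.codRestrict inr.range hmem)
  refine ⟨Spec.map (CommRingCat.ofHom f') ≫ hV.fromSpec, ?_⟩
  have hf' : CommRingCat.ofHom f' ≫ CommRingCat.ofHom inr = f := by
    ext a
    exact congrArg Subtype.val (RingEquiv.apply_symm_apply (RingEquiv.ofBijective inr.rangeRestrict
      ⟨fun a b hab => hinj (congrArg Subtype.val hab), inr.rangeRestrict_surjective⟩) ⟨f.hom a, hmem a⟩)
  rw [← Category.assoc, ← Spec.map_comp, hf', hf, IsOpenImmersion.lift_fac]

theorem isPullback_spec {A B : Type u} [CommRing A] [Algebra F A] [CommRing B] [Algebra F B] (φ : A →ₐ[F] B) :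
    IsPullback (Spec.map (CommRingCat.ofHom (Algebra.TensorProduct.map (AlgHom.id F L) φ).toRingHom))
      (Spec.map (CommRingCat.ofHom (Algebra.TensorProduct.includeRight : B →ₐ[F] L ⊗[F] B).toRingHom))
      (Spec.map (CommRingCat.ofHom (Algebra.TensorProduct.includeRight : A →ₐ[F] L ⊗[F] A).toRingHom))
      (Spec.map (CommRingCat.ofHom φ.toRingHom)) := by
  have sq : ∀ (C : Type u) [CommRing C] [Algebra F C],
      IsPullback (Spec.map (CommRingCat.ofHom (Algebra.TensorProduct.includeLeftRingHom : L →+* L ⊗[F] C)))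
        (Spec.map (CommRingCat.ofHom (Algebra.TensorProduct.includeRight : C →ₐ[F] L ⊗[F] C).toRingHom))
        (Spec.map (CommRingCat.ofHom (algebraMap F L))) (Spec.map (CommRingCat.ofHom (algebraMap F C))) :=
    fun C _ _ => isPullback_SpecMap_of_isPushout _ _ _ _ (CommRingCat.isPushout_tensorProduct F L C)
  refine IsPullback.of_right ?_ ?_ (sq A)
  · convert sq B using 1
    · rw [← Spec.map_comp]
      congr 1
      ext l
      simp
    · rw [← Spec.map_comp]
      congr 1
      ext c
      simp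
  · rw [← Spec.map_comp, ← Spec.map_comp]
    congr 1


/-- A point with values in `L ⊗ R` that is also defined over `E` is defined over `F`. -/
theorem exists_factor [Module.Finite F R] [IsAlgClosed E]
    (hLE : ∀ (a : L) (b : E), algebraMap L Ω a = algebraMap E Ω b → a ∈ Set.range (algebraMap F L))
    {X : Scheme.{u}} (x : Spec (.of (L ⊗[F] R)) ⟶ X) (y : Spec (.of (E ⊗[F] R)) ⟶ X)
    (h : Spec.map (CommRingCat.ofHom (coefMap F L Ω R).toRingHom) ≫ x =
      Spec.map (CommRingCat.ofHom (coefMap F E Ω R).toRingHom) ≫ y) :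
    ∃ x' : Spec (.of R) ⟶ X,
      Spec.map (CommRingCat.ofHom (Algebra.TensorProduct.includeRight : R →ₐ[F] L ⊗[F] R).toRingHom) ≫ x' = x := by
  haveI : IsArtinianRing R := IsArtinianRing.of_finite F R
  let π := Spec.map (CommRingCat.ofHom (Algebra.TensorProduct.includeRight : R →ₐ[F] L ⊗[F] R).toRingHom)
  have hff : (Algebra.TensorProduct.includeRight : R →ₐ[F] L ⊗[F] R).toRingHom.FaithfullyFlat :=
    RingHom.faithfullyFlat_algebraMap_iff.2 (inferInstance : Module.FaithfullyFlat R (R ⊗[F] L)) |> fun hh => by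
      have e : (Algebra.TensorProduct.includeRight : R →ₐ[F] L ⊗[F] R).toRingHom =
          (Algebra.TensorProduct.comm F R L).toRingEquiv.toRingHom.comp (algebraMap R (R ⊗[F] L)) := by
        ext r; rfl
      rw [e]
      exact RingHom.FaithfullyFlat.respectsIso.1 _ _ hh
  haveI : Flat π := Flat.SpecMap_iff.2 hff.flat
  haveI : Surjective π := ⟨by
    algebraize [(Algebra.TensorProduct.includeRight : R →ₐ[F] L ⊗[F] R).toRingHom]
    haveI : Module.FaithfullyFlat R (L ⊗[F] R) := hff
    exact PrimeSpectrum.comap_surjective_of_faithfullyFlat⟩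
  haveI : QuasiCompact π := inferInstance
  suffices ∀ {Z : Scheme.{u}} (g₁ g₂ : Z ⟶ Spec (.of (L ⊗[F] R))), g₁ ≫ π = g₂ ≫ π → g₁ ≫ x = g₂ ≫ x from
    ⟨EffectiveEpi.desc π x this, EffectiveEpi.fac π x this⟩
  intro Z g₁ g₂ hg
  choose e he hD using fun q : PrimeSpectrum R =>
    PrimeSpectrum.exists_idempotent_basicOpen_eq_of_isClopen (isClopen_discrete ({q} : Set _))
  have hmem : ∀ q, q ∈ PrimeSpectrum.basicOpen (e q) := fun q => by
    rw [← SetLike.mem_coe, ← hD]; rfl
  have hspan : Ideal.span (Set.range e) = ⊤ := by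
    by_contra hne
    obtain ⟨m, hm, hle⟩ := Ideal.exists_le_maximal _ hne
    exact hmem ⟨m, hm.isPrime⟩ (hle (Ideal.subset_span ⟨_, rfl⟩))
  let 𝒰 := (Scheme.affineOpenCoverOfSpanRangeEqTop (R := CommRingCat.of R) e hspan).openCover
  refine Scheme.Cover.hom_ext (𝒰.pullback₁ (g₁ ≫ π)) _ _ fun q => ?_
  let Rq := Localization.Away (e q)
  let φ : R →ₐ[F] Rq := IsScalarTower.toAlgHom F R Rq
  haveI : Module.Finite F Rq :=
    Module.Finite.of_surjective φ.toLinearMap (IsArtinianRing.localization_surjective (Submonoid.powers (e q)) Rq)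
  haveI : IsLocalRing Rq := by
    haveI : Nontrivial Rq := by
      have : Nonempty (PrimeSpectrum Rq) := by
        have hr := PrimeSpectrum.localization_away_comap_range Rq (e q)
        obtain ⟨Q, -⟩ : q ∈ Set.range (PrimeSpectrum.comap (algebraMap R Rq)) := hr ▸ hmem q
        exact ⟨Q⟩
      exact PrimeSpectrum.nonempty_iff_nontrivial.1 this
    have : Subsingleton (PrimeSpectrum Rq) := ⟨fun Q Q' => by
      apply PrimeSpectrum.localization_comap_injective Rq (Submonoid.powers (e q))
      have hr := PrimeSpectrum.localization_away_comap_range Rq (e q)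
      have h1 : ∀ Q : PrimeSpectrum Rq, PrimeSpectrum.comap (algebraMap R Rq) Q = q := fun Q => by
        have := hr ▸ Set.mem_range_self (f := PrimeSpectrum.comap (algebraMap R Rq)) Q
        rw [← hD] at this
        exact this
      rw [h1, h1]⟩
    exact IsLocalRing.of_unique_max_ideal ⟨_, (Ideal.exists_maximal Rq).choose_spec, fun I hI =>
      congrArg PrimeSpectrum.asIdeal (@Subsingleton.elim _ this ⟨I, hI.isPrime⟩ ⟨_, (Ideal.exists_maximal Rq).choose_spec.isPrime⟩)⟩
  have natL : ∀ (M : Type u) [Field M] [Algebra F M] [Algebra M Ω] [IsScalarTower F M Ω],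
      (coefMap F M Ω Rq).toRingHom.comp (Algebra.TensorProduct.map (AlgHom.id F M) φ).toRingHom =
        (Algebra.TensorProduct.map (AlgHom.id F Ω) φ).toRingHom.comp (coefMap F M Ω R).toRingHom := by
    intro M _ _ _ _
    refine RingHom.ext fun a => ?_
    induction a using TensorProduct.induction_on with
    | zero => simp
    | tmul m r => rfl
    | add a b ha hb => simp only [map_add, ha, hb]
  let J := Spec.map (CommRingCat.ofHom (Algebra.TensorProduct.map (AlgHom.id F L) φ).toRingHom)
  let JE := Spec.map (CommRingCat.ofHom (Algebra.TensorProduct.map (AlgHom.id F E) φ).toRingHom)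
  obtain ⟨xq, hxq⟩ := exists_factor_local (R := Rq) hLE (J ≫ x) (JE ≫ y) (by
    simp only [J, JE, ← Spec.map_comp_assoc, ← CommRingCat.ofHom_comp, natL]
    simp only [CommRingCat.ofHom_comp, Spec.map_comp, Category.assoc, h])
  have sq := isPullback_spec (L := L) φ
  let pr := pullback.fst (g₁ ≫ π) (𝒰.f q)
  let pq : pullback (g₁ ≫ π) (𝒰.f q) ⟶ Spec (.of Rq) := pullback.snd (g₁ ≫ π) (𝒰.f q)
  have hc : (pr ≫ g₁) ≫ π = pq ≫ Spec.map (CommRingCat.ofHom φ.toRingHom) :=
    (Category.assoc _ _ _).trans pullback.condition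
  have hc' : (pr ≫ g₂) ≫ π = pq ≫ Spec.map (CommRingCat.ofHom φ.toRingHom) := by
    exact ((Category.assoc _ _ _).trans (congrArg (pr ≫ ·) hg.symm)).trans pullback.condition
  show pr ≫ g₁ ≫ x = pr ≫ g₂ ≫ x
  rw [← Category.assoc, ← Category.assoc, ← sq.lift_fst _ _ hc, ← sq.lift_fst _ _ hc', Category.assoc,
    Category.assoc]
  erw [← hxq, sq.lift_snd_assoc, sq.lift_snd_assoc]

end Scheme

end Groth.Agent.EssDim28
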