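import Groth.Prelude.Def_EssDim
import Groth.Prelude.Def_StCurv2
import Groth.Agent.Lib.StAlg16.AlgClosedRational
import Groth.Agent.Lib.AlgSpDecent.ClosedPoints
import Groth.Agent.Lib.AlgSpace.QCQS
import Groth.Agent.Lib.LimSys14.Separated
import Groth.Agent.Lib.FibDim14.Basic
import Groth.Agent.Lib.GrpdDim19.Basic
import Groth.Agent.Lib.EtBase.Unramified

/-!
# Essential dimension along representable morphisms of bounded relative dimension
-/

universe u

set_option autoImplicit false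
set_option linter.style.haveILetI false
set_option backward.isDefEq.respectTransparency false
set_option backward.isDefEq.respectTransparency.types false

open CategoryTheory CategoryTheory.Functor CategoryTheory.Limits AlgebraicGeometry Opposite

namespace Groth.Agent.EssDim28

open Groth.Agent.FC16 Groth.Agent.StAlg Groth.Agent.StAlg16 Groth.Agent.VarDim

section Points

variable {k : Type u} [Field k]

theorem exists_resPt {M L : Type u} [Field M] [Algebra k M] [Field L] [Algebra k L]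
    (m : SGA7.pt (K := k) L ⟶ SGA7.pt (K := k) M) : ∃ j : M →ₐ[k] L, EssDim.resPt j = m := by
  obtain ⟨f, hf⟩ := Spec.map_surjective m.left
  have hw : CommRingCat.ofHom (algebraMap k M) ≫ f = CommRingCat.ofHom (algebraMap k L) := by
    apply Spec.map_injective
    rw [Spec.map_comp, hf]
    exact Over.w m
  refine ⟨{ f.hom with commutes' := fun c => RingHom.congr_fun (congrArg CommRingCat.Hom.hom hw) c }, ?_⟩
  exact Over.OverMorphism.ext hf

variable {𝒳 : AlgSt.Cat (Spec (CommRingCat.of k))} [FibCat.IsFibGrpd 𝒳.p]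

/-- an object with a morphism to an object over a field descends to the image of that field -/
theorem descends_of_hom {L M : Type u} [Field L] [Algebra k L] [Field M] [Algebra k M] (j : M →ₐ[k] L)
    (x : StkCnt.pts 𝒳 L) (x' : StkCnt.pts 𝒳 M) (φ : x.1 ⟶ x'.1) (hφ : 𝒳.p.IsHomLift (EssDim.resPt j) φ) :
    EssDim.Descends (Gerb.isoClPsh 𝒳) (Quot.mk (Gerb.IsoRel 𝒳 (SGA7.pt (K := k) L)) x) j.fieldRange := by
  have hφ' : 𝒳.p.IsHomLift (EssDim.resPt j ≫ eqToHom x'.2.symm) φ :=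
    (IsHomLift.lift_comp_eqToHom_iff 𝒳.p (EssDim.resPt j) φ x'.2.symm).mpr hφ
  obtain ⟨χ, hχ, -⟩ := Gerb.exists_hom_pull 𝒳 x'.1 (EssDim.resPt j ≫ eqToHom x'.2.symm) φ hφ'
  have h1 : EssDim.fmap (P := Gerb.isoClPsh 𝒳) j (Quot.mk _ x') =
      Quot.mk (Gerb.IsoRel 𝒳 (SGA7.pt (K := k) L)) x := by
    change Quot.mk (Gerb.IsoRel 𝒳 _) (Gerb.pullFib 𝒳 (EssDim.resPt j) x') = Quot.mk (Gerb.IsoRel 𝒳 _) x
    exact (Quot.sound (r := Gerb.IsoRel 𝒳 (SGA7.pt (K := k) L)) (a := x) ⟨⟨χ, hχ⟩⟩).symm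
  let e : M →ₐ[k] j.fieldRange :=
    { toFun := fun a => ⟨j a, AlgHom.mem_fieldRange.mpr ⟨a, rfl⟩⟩
      map_one' := Subtype.ext (map_one j)
      map_mul' := fun a b => Subtype.ext (map_mul j a b)
      map_zero' := Subtype.ext (map_zero j)
      map_add' := fun a b => Subtype.ext (map_add j a b)
      commutes' := fun a => Subtype.ext (j.commutes a) }
  refine ⟨EssDim.fmap (P := Gerb.isoClPsh 𝒳) e (Quot.mk _ x'), ?_⟩
  rw [← h1]
  have hc : j.fieldRange.val.comp e = j := AlgHom.ext fun _ => rfl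
  conv_rhs => rw [← hc]
  simp only [EssDim.fmap, EssDim.resPt_comp, op_comp, Functor.map_comp]
  rfl

/-- the image of a field embedding has the transcendence degree of the field -/
theorem trdeg_fieldRange {L M : Type u} [Field L] [Algebra k L] [Field M] [Algebra k M] (j : M →ₐ[k] L) :
    Algebra.trdeg k j.fieldRange = Algebra.trdeg k M :=
  (AlgEquiv.ofInjectiveField j).trdeg_eq.symm

end Points

section Space

open AlgSp Groth.Agent.AlgSpace Groth.Agent.AlgSpDecent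

variable {k : Type u} [Field k] {K L : Type u} [Field K] [Algebra k K] [Field L] [Algebra k L]

theorem rdeg_eq_zero_of_etale {X Y : Scheme.{u}} (b : X ⟶ Y) [Etale b] (x : X) : FibDim14.rdeg b x = 0 := by
  haveI : LocallyQuasiFinite b := EtBase.locallyQuasiFinite_of_formallyUnramified b
  have h0 : FlatMor.fibreDimAt b x = 0 := (FibDim14.fibreDimAt_eq_zero_iff b x).2 (b.quasiFiniteAt x)
  have h1 := FibDim14.rd_le_fibreDimAt b (specializes_refl x) rfl
  rw [h0] at h1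
  have h2 : FibDim14.rd b x = 0 := by
    have : (FibDim14.rd b x : WithBot ℕ∞) ≤ ((0 : ℕ) : WithBot ℕ∞) := h1
    exact Nat.le_zero.mp (by exact_mod_cast this)
  rw [FibDim14.rdeg_eq_rd, h2, Nat.cast_zero]

/-- A field point of a space of relative dimension at most `d` over `K` is defined over an extension of `K` of
transcendence degree at most `d`. -/
theorem exists_small_factor {G : Space (Spec (CommRingCat.of k))}
    (A : G.obj ⟶ (yon _).obj (SGA7.pt (K := k) K)) (hlft : LocP @LocallyOfFiniteType A)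
    (hqs : IsQuasiSeparatedMor A) (d : ℕ) (hdim : CurvSt.RelDimLE d A)
    (g : (yon _).obj (SGA7.pt (K := k) L) ⟶ G.obj) :
    ∃ (q : FieldPt G.obj) (_ : Algebra k q.K) (j : SGA7.pt (K := k) L ⟶ q.pt),
      (yon _).map j ≫ q.toHom = g ∧ q.pt = SGA7.pt (K := k) q.K ∧
      Algebra.trdeg k q.K ≤ Algebra.trdeg k K + (d : Cardinal) := by
  have hqsK : IsQuasiSeparatedSp ((yon _).obj (SGA7.pt (K := k) K)) := LimSys14.isQuasiSeparatedSp_yon _
  have hdec : IsDecent G.obj :=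
    isDecent_of_isQuasiSeparatedSp G.property (isQuasiSeparatedSp_of_mor hqs hqsK)
  obtain ⟨q, hq, hm, hqc⟩ := hdec (Points.ofPt g (IsLocalRing.closedPoint L))
  obtain ⟨j, hj⟩ := exists_factor_mono_point g q hqc hq
  obtain ⟨M, str, val⟩ := q
  obtain ⟨φ, rfl⟩ := Spec.map_surjective str
  letI : Algebra k M := φ.hom.toAlgebra
  refine ⟨_, inferInstanceAs (Algebra k M), j, hj, rfl, ?_⟩
  set q : FieldPt G.obj := ⟨M, Spec.map φ, val⟩ with hqdef
  obtain ⟨ι', hι'⟩ := (yon _).map_surjective (q.toHom ≫ A)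
  obtain ⟨ι, hι⟩ := exists_resPt (M := K) (L := M) ι'
  obtain ⟨U, V, a, b, h, u, ha, hb, hab, hu, hdu⟩ := hdim (Points.mk q)
  obtain ⟨b', rfl⟩ := (yon _).map_surjective b
  haveI : Etale b'.left := (repWith_yon_map_iff @Etale b').1 hb
  haveI : LocallyOfFiniteType h.left := hlft a _ h ha hb hab
  let T := Over.mk (U.left.fromSpecResidueField u ≫ U.hom)
  let pu : T ⟶ U := Over.homMk (U.left.fromSpecResidueField u) rfl
  obtain ⟨m, hmq⟩ := exists_factor_mono_point ((yon _).map pu ≫ a) q hqc (by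
    rw [ofPt_map_comp]
    refine hu.symm.trans ?_
    congr 1
    exact (Scheme.fromSpecResidueField_apply _ _).symm)
  let c : U.left ⟶ Spec (CommRingCat.of K) := h.left ≫ b'.left
  have hcomm : m ≫ ι' = pu ≫ h ≫ b' := by
    apply (yon _).map_injective
    rw [Functor.map_comp, hι', ← Category.assoc, hmq, Category.assoc, hab, ← Functor.map_comp,
      ← Functor.map_comp]
  obtain ⟨μ, hμ⟩ := Spec.map_surjective m.left
  have hring : CommRingCat.ofHom (ι : K →+* M) ≫ μ = CommRingCat.ofHom (baseToRes c u) := by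
    apply Spec.map_injective
    rw [Spec.map_comp, hμ, ← GrpdDim19.fromSpecResidueField_comp, ← EssDim.resPt_left, hι]
    exact congrArg CommaMorphism.left hcomm
  letI : Algebra K M := (ι : K →+* M).toAlgebra
  haveI : IsScalarTower k K M := IsScalarTower.of_algebraMap_eq fun x => (ι.commutes x).symm
  letI : Algebra K (U.left.residueField u) := resAlg c u
  let μ' : M →ₐ[K] U.left.residueField u :=
    { μ.hom with commutes' := fun x => RingHom.congr_fun (congrArg CommRingCat.Hom.hom hring) x }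
  haveI : LocallyOfFiniteType c := inferInstance
  have hsd : (sdim c u : Cardinal) = FibDim14.rdeg c u := (trdeg_over_pt c u).symm
  have hrd : FibDim14.rdeg c u ≤ (d : Cardinal) := by
    rw [FibDim14.rdeg_comp, rdeg_eq_zero_of_etale, zero_add, FibDim14.rdeg_eq_rd]
    have h1 := (FibDim14.rd_le_fibreDimAt h.left (specializes_refl u) rfl).trans hdu
    exact_mod_cast h1
  have h2 : Algebra.trdeg K M ≤ (d : Cardinal) :=
    (trdeg_le_of_injective μ' μ'.toRingHom.injective).trans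
      (le_of_eq_of_le ((trdeg_residueField c u).trans hsd) hrd)
  show Algebra.trdeg k M ≤ _
  rw [← trdeg_add_eq k K (A := M)]
  exact add_le_add le_rfl h2

end Space

section Stack

variable {k : Type u} [Field k] {𝒳 𝒴 : AlgSt.Cat (Spec (CommRingCat.of k))}
  [FibCat.IsFibGrpd 𝒳.p] [FibCat.IsFibGrpd 𝒴.p]

theorem edStAt_le (F : 𝒳 ⥤ᵇ 𝒴) (d : ℕ)
    (hF : AlgSt.RepByAlgSpWith
      (AlgSp.LocP @LocallyOfFiniteType ⊓ AlgSp.IsQuasiSeparatedMor ⊓ fun _ _ g => CurvSt.RelDimLE d g) F)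
    (L : Type u) [Field L] [Algebra k L] (x : StkCnt.pts 𝒳 L) :
    EssDim.edStAt 𝒳 x ≤ EssDim.edStAt 𝒴 ⟨F.obj x.1, (F.w_obj x.1).trans x.2⟩ + d := by
  haveI : 𝒴.p.IsFibered := FC16.isFibered (p := 𝒴.p) ‹_›
  rw [EssDim.edStAt, EssDim.edStAt, EssDim.edAt, EssDim.edAt, ENat.iInf_add]
  refine le_iInf fun ⟨K, hK⟩ => ?_
  obtain ⟨y₀, φ, hφ⟩ := (EssDim.descends_isoCl_iff 𝒴 ⟨F.obj x.1, (F.w_obj x.1).trans x.2⟩ K).1 hK
  haveI := hφ
  let f := EssDim.resPt K.val
  haveI := ofObjIso_lift y₀.2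
  obtain ⟨G, e, he, ⟨hlft, hqs⟩, hdim⟩ := hF (SGA7.pt (K := k) K) (ofObj y₀.2)
  let Φ := BasedFunctor.comp e (FibCat.fpFst (ofObj y₀.2) F)
  let Ψ := BasedFunctor.comp e (FibCat.fpSnd (ofObj y₀.2) F)
  let χ := IsStronglyCartesian.map 𝒴.p f (Functor.IsPreFibered.pullbackMap y₀.2 f)
    (g := 𝟙 (SGA7.pt (K := k) L)) (f' := f) (Category.id_comp _).symm φ
  haveI : 𝒴.p.IsHomLift (𝟙 (SGA7.pt (K := k) L)) χ := inferInstance
  haveI := isIso_of_isHomLift ‹FibCat.IsFibGrpd 𝒴.p› (𝟙 (SGA7.pt (K := k) L)) χ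
  haveI : 𝒴.p.IsHomLift (𝟙 (SGA7.pt (K := k) L)) (asIso χ).hom :=
    (inferInstance : 𝒴.p.IsHomLift (𝟙 (SGA7.pt (K := k) L)) χ)
  let O : (FibCat.fp (ofObj y₀.2) F).obj :=
    fpObj (Over.mk f) x.1 (asIso χ).symm (U := SGA7.pt (K := k) L) rfl
      (inferInstanceAs (𝒴.p.IsHomLift (𝟙 (SGA7.pt (K := k) L)) (asIso χ).inv))
  obtain ⟨⟨T, σ⟩, ε, hε⟩ := essSurjOver_of_isEquivOver he O
  have hT : T = SGA7.pt (K := k) L := by
    haveI := hε
    exact (e.w_obj ⟨T, σ⟩).symm.trans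
      (IsHomLift.domain_eq (FibCat.fp (ofObj y₀.2) F).p (𝟙 ((FibCat.fp (ofObj y₀.2) F).p.obj O)) ε.hom)
  subst hT
  haveI : (FibCat.fp (ofObj y₀.2) F).p.IsHomLift (𝟙 (SGA7.pt (K := k) L)) ε.hom := hε
  let o : (AlgSt.ofSp G.obj).obj := ⟨SGA7.pt (K := k) L, σ⟩
  let g : (AlgSp.yon _).obj (SGA7.pt (K := k) L) ⟶ G.obj := (AlgSp.J _).uliftYonedaEquiv.symm σ
  obtain ⟨q, _, m, hm, hpt, htr⟩ := exists_small_factor (AlgSt.spMapOfOver Φ) hlft hqs d hdim g
  have hσ : G.obj.obj.map m.op q.val = σ :=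
    (AlgSp.J (Spec (CommRingCat.of k))).uliftYonedaEquiv.symm.injective
      (((AlgSpDecent.toHom_restrict q m).trans hm) : _ = g)
  let oq : (AlgSt.ofSp G.obj).obj := ⟨q.pt, q.val⟩
  let ψ : o ⟶ oq := ⟨m, hσ⟩
  haveI : 𝒳.p.IsHomLift m (Ψ.map ψ) := by
    haveI : (AlgSt.ofSp G.obj).p.IsHomLift m ψ := IsHomLift.of_fac' _ _ _ rfl rfl (by simp; rfl)
    exact BasedFunctor.preserves_isHomLift Ψ m ψ
  haveI : 𝒳.p.IsHomLift (𝟙 (SGA7.pt (K := k) L)) ((FibCat.fpSnd (ofObj y₀.2) F).map ε.inv) := by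
    haveI : (FibCat.fp (ofObj y₀.2) F).p.IsHomLift (𝟙 (SGA7.pt (K := k) L)) ε.inv := inferInstance
    exact BasedFunctor.preserves_isHomLift (FibCat.fpSnd (ofObj y₀.2) F) (𝟙 (SGA7.pt (K := k) L)) ε.inv
  let x' : StkCnt.pts 𝒳 q.K := ⟨Ψ.obj oq, (Ψ.w_obj oq).trans hpt⟩
  let α : x.1 ⟶ x'.1 := (FibCat.fpSnd (ofObj y₀.2) F).map ε.inv ≫ Ψ.map ψ
  obtain ⟨j, hj⟩ := exists_resPt (m ≫ eqToHom hpt)
  have hα : 𝒳.p.IsHomLift (EssDim.resPt j) α := by
    rw [hj]
    haveI : 𝒳.p.IsHomLift (𝟙 (SGA7.pt (K := k) L) ≫ m) α :=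
      inferInstanceAs (𝒳.p.IsHomLift (𝟙 _ ≫ m) ((FibCat.fpSnd (ofObj y₀.2) F).map ε.inv ≫ Ψ.map ψ))
    exact (IsHomLift.lift_comp_eqToHom_iff 𝒳.p m α hpt).2 (by simpa using this)
  refine (EssDim.edAt_le_of_descends (descends_of_hom j x x' α hα)).trans ?_
  rw [trdeg_fieldRange]
  refine (OrderHomClass.mono Cardinal.toENat htr).trans ?_
  rw [_root_.map_add, Cardinal.toENat_nat]

theorem edSt_le (F : 𝒳 ⥤ᵇ 𝒴) (d : ℕ)
    (hF : AlgSt.RepByAlgSpWith
      (AlgSp.LocP @LocallyOfFiniteType ⊓ AlgSp.IsQuasiSeparatedMor ⊓ fun _ _ g => CurvSt.RelDimLE d g) F) :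
    EssDim.edSt 𝒳 ≤ EssDim.edSt 𝒴 + ((d : ℕ) : WithBot ℕ∞) := by
  refine iSup_le fun L => iSup_le fun _ => iSup_le fun _ => iSup_le fun ξ => ?_
  obtain ⟨x, rfl⟩ := Quot.exists_rep ξ
  refine le_trans (WithBot.coe_le_coe.mpr (edStAt_le F d hF L x)) ?_
  rw [WithBot.coe_add]
  exact add_le_add (EssDim.edAt_le_ed _) le_rfl

end Stack

end Groth.Agent.EssDim28
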