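import Groth.Prelude.Def_EssDim
import Groth.Agent.Lib.Quot16.Basic
import Groth.Agent.Lib.Quot16.Local
import Groth.Agent.Lib.WeilH13.Count
import Groth.Agent.Lib.EssDim28.Algebra
import Groth.Agent.Lib.EssDim28.Compositum

/-!
# Essential dimension of quotient stacks
-/

universe u

set_option autoImplicit false
set_option linter.style.haveILetI false
set_option backward.isDefEq.respectTransparency false
set_option backward.isDefEq.respectTransparency.types false

open CategoryTheory CategoryTheory.Limits MonoidalCategory CartesianMonoidalCategory MonObj GrpObj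
  AlgebraicGeometry TensorProduct AlgSt

namespace Groth.Agent.EssDim28

open Groth.Agent.Quot16 Groth.Agent.VarDim

variable {k : Type u} [Field k]

/-- the spectrum of a `k`-algebra over `Spec k` -/
noncomputable abbrev spO (A : Type u) [CommRing A] [Algebra k A] : Over (Spec (CommRingCat.of k)) :=
  Over.mk (Spec.map (CommRingCat.ofHom (algebraMap k A)))

/-- the spectrum of a map of `k`-algebras -/
noncomputable def sp {A B : Type u} [CommRing A] [Algebra k A] [CommRing B] [Algebra k B] (f : A →ₐ[k] B) :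
    spO (k := k) B ⟶ spO (k := k) A :=
  Over.homMk (Spec.map (CommRingCat.ofHom (f : A →+* B))) (by
    change Spec.map _ ≫ Spec.map _ = Spec.map _
    rw [← Spec.map_comp, ← CommRingCat.ofHom_comp, f.comp_algebraMap])

theorem sp_left {A B : Type u} [CommRing A] [Algebra k A] [CommRing B] [Algebra k B] (f : A →ₐ[k] B) :
    (sp f).left = Spec.map (CommRingCat.ofHom (f : A →+* B)) := rfl

theorem sp_comp {A B C : Type u} [CommRing A] [Algebra k A] [CommRing B] [Algebra k B] [CommRing C] [Algebra k C]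
    (f : A →ₐ[k] B) (g : B →ₐ[k] C) : sp (g.comp f) = sp g ≫ sp f := by
  apply Over.OverMorphism.ext
  rw [Over.comp_left, sp_left, sp_left, sp_left, ← Spec.map_comp, ← CommRingCat.ofHom_comp]
  rfl

theorem sp_resPt {K L : Type u} [Field K] [Algebra k K] [Field L] [Algebra k L] (f : K →ₐ[k] L) :
    EssDim.resPt f = sp f := rfl

/-- faithfully flat quasi-compact morphisms over the base -/
def IsFpqc {S : Scheme.{u}} {A B : Over S} (f : A ⟶ B) : Prop :=
  Flat f.left ∧ Surjective f.left ∧ QuasiCompact f.left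

theorem IsFpqc.of_isPullback {S : Scheme.{u}} {P X Y Z : Over S} {fst : P ⟶ X} {snd : P ⟶ Y} {f : X ⟶ Z}
    {g : Y ⟶ Z} (h : IsPullback fst snd f g) (hg : IsFpqc g) : IsFpqc fst := by
  have hl : IsPullback fst.left snd.left f.left g.left := h.map (Over.forget S)
  exact ⟨MorphismProperty.of_isPullback hl.flip hg.1, MorphismProperty.of_isPullback hl.flip hg.2.1,
    MorphismProperty.of_isPullback hl.flip hg.2.2⟩

theorem IsFpqc.cancel {S : Scheme.{u}} {A B C : Over S} {f : A ⟶ B} (hf : IsFpqc f) {g g' : B ⟶ C}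
    (h : f ≫ g = f ≫ g') : g = g' := by
  obtain ⟨h1, h2, h3⟩ := hf
  apply Over.OverMorphism.ext
  rw [← cancel_epi f.left, ← Over.comp_left, h, Over.comp_left]

theorem IsFpqc.exists_desc {S : Scheme.{u}} {A B C : Over S} {f : A ⟶ B} (hf : IsFpqc f) (h : A ⟶ C)
    (hc : ∀ (Z : Over S) (a b : Z ⟶ A), a ≫ f = b ≫ f → a ≫ h = b ≫ h) : ∃ l : B ⟶ C, f ≫ l = h := by
  obtain ⟨h1, h2, h3⟩ := hf
  have hc' : ∀ {Z : Scheme.{u}} (a b : Z ⟶ A.left), a ≫ f.left = b ≫ f.left → a ≫ h.left = b ≫ h.left := by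
    intro Z a b e
    have hb : b ≫ A.hom = a ≫ A.hom := by
      rw [← Over.w f, reassoc_of% e]
    exact congrArg CommaMorphism.left
      (hc (Over.mk (a ≫ A.hom)) (Over.homMk a rfl) (Over.homMk b hb) (Over.OverMorphism.ext e))
  refine ⟨Over.homMk (EffectiveEpi.desc f.left h.left hc') ?_,
    Over.OverMorphism.ext (EffectiveEpi.fac f.left h.left hc')⟩
  rw [← cancel_epi f.left, EffectiveEpi.fac_assoc, Over.w h, Over.w f]

theorem isFpqc_sp_of_field {K A : Type u} [Field K] [Algebra k K] [CommRing A] [Nontrivial A] [Algebra k A]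
    [Algebra K A] [IsScalarTower k K A] : IsFpqc (sp (IsScalarTower.toAlgHom k K A)) := by
  refine ⟨?_, ⟨fun x => ⟨Classical.arbitrary (PrimeSpectrum A), ?_⟩⟩, ?_⟩
  · rw [sp_left, Flat.SpecMap_iff]
    exact RingHom.flat_algebraMap_iff.2 inferInstance
  · exact @Subsingleton.elim (PrimeSpectrum K) inferInstance _ _
  · rw [sp_left]
    exact (inferInstance : QuasiCompact
      (Spec.map (CommRingCat.ofHom (algebraMap K A)) : Spec (CommRingCat.of A) ⟶ Spec (CommRingCat.of K)))

section Point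

variable {K : Type u} [Field K] [Algebra k K]

/-- a torsor over a field has a point over a finite extension -/
theorem exists_finite_point {P0 : Over (Spec (CommRingCat.of k))} (π0 : P0 ⟶ SGA7.pt (K := k) K)
    (hloc : NonAbH1.IsLocallyTrivialFor Scheme.fppfPrecoverage
      (Over.mk π0.left : Over (SGA7.pt (K := k) K).left)) :
    ∃ (M : Type u) (_ : Field M) (_ : Algebra k M) (_ : Algebra K M) (_ : IsScalarTower k K M)
      (_ : Module.Finite K M) (p0 : SGA7.pt (K := k) M ⟶ P0),
      p0 ≫ π0 = sp (IsScalarTower.toAlgHom k K M) := by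
  obtain ⟨R, hR, hs⟩ := hloc
  obtain ⟨hjs, hP⟩ := mem_fppf_iff hR
  obtain ⟨U, j, hj, x, -⟩ := hjs (IsLocalRing.closedPoint K)
  obtain ⟨s, hs⟩ := hs j hj
  haveI : LocallyOfFinitePresentation j := (hP hj).2
  let j' : U ⟶ Spec (CommRingCat.of K) := j
  haveI : LocallyOfFiniteType j' := inferInstanceAs (LocallyOfFiniteType j)
  haveI : JacobsonSpace U := LocallyOfFiniteType.jacobsonSpace j'
  obtain ⟨u, -, hu⟩ := nonempty_inter_closedPoints (Z := (Set.univ : Set U)) ⟨x, trivial⟩
    isClosed_univ.isLocallyClosed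
  letI : Algebra K (U.residueField u) := resAlg j' u
  letI : Algebra k (U.residueField u) := ((algebraMap K (U.residueField u)).comp (algebraMap k K)).toAlgebra
  haveI : IsScalarTower k K (U.residueField u) := IsScalarTower.of_algebraMap_eq fun _ => rfl
  have hfin : Module.Finite K (U.residueField u) := WeilH13.finite_residueField_of_isClosed j' u hu
  have hj' : U.fromSpecResidueField u ≫ j' = Spec.map (CommRingCat.ofHom (algebraMap K (U.residueField u))) :=
    WeilH13.fromSpecResidueField_comp j' u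
  have hs' : s ≫ π0.left = j' := hs
  refine ⟨U.residueField u, inferInstance, inferInstance, inferInstance, inferInstance, hfin,
    Over.homMk (U.fromSpecResidueField u ≫ s) ?_, Over.OverMorphism.ext ?_⟩
  · change (U.fromSpecResidueField u ≫ s) ≫ P0.hom = _
    rw [← Over.w π0, Category.assoc, reassoc_of% hs', reassoc_of% hj']
    change Spec.map _ ≫ Spec.map _ = Spec.map _
    rw [← Spec.map_comp]
    rfl
  · change (U.fromSpecResidueField u ≫ s) ≫ π0.left = _
    rw [Category.assoc, hs', hj']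
    rfl

/-- a field point factors through the residue field of its image -/
theorem exists_residue {Ω : Type u} [Field Ω] [Algebra k Ω] {X : Over (Spec (CommRingCat.of k))}
    (z : SGA7.pt (K := k) Ω ⟶ X) :
    ∃ (x : X.left), letI := resAlg X.hom x; ∃ (iot : X.left.residueField x →ₐ[k] Ω)
      (zx : SGA7.pt (K := k) (X.left.residueField x) ⟶ X), sp iot ≫ zx = z := by
  obtain ⟨⟨x, i⟩, hi⟩ := (Scheme.SpecToEquivOfField Ω X.left).symm.surjective
    (show Spec (CommRingCat.of Ω) ⟶ X.left from z.left)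
  refine ⟨x, ?_⟩
  letI := resAlg X.hom x
  have hi' : Spec.map i ≫ X.left.fromSpecResidueField x = z.left := hi
  have hw : CommRingCat.ofHom (algebraMap k (X.left.residueField x)) ≫ i = CommRingCat.ofHom (algebraMap k Ω) := by
    apply Spec.map_injective
    rw [Spec.map_comp]
    refine Eq.trans ?_ (Over.w z)
    rw [← hi', Category.assoc]
    exact congrArg (Spec.map i ≫ ·) (WeilH13.fromSpecResidueField_comp X.hom x).symm
  refine ⟨{ i.hom with commutes' := fun c => RingHom.congr_fun (congrArg CommRingCat.Hom.hom hw) c },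
    Over.homMk (X.left.fromSpecResidueField x) (WeilH13.fromSpecResidueField_comp X.hom x), ?_⟩
  exact Over.OverMorphism.ext hi'

end Point

section Main

variable {G X : Over (Spec (CommRingCat.of k))} [GrpObj G] {aX : AlgGrp.Action G X} [LocallyOfFiniteType X.hom]
  {L : Type u} [Field L] [Algebra k L]

set_option synthInstance.maxHeartbeats 200000 in
set_option maxHeartbeats 1600000 in
theorem exists_descended (A : QuotObj Scheme.fppfPrecoverage G aX) (hA : A.base = SGA7.pt (K := k) L)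
    (K : IntermediateField k L) (B : QuotObj Scheme.fppfPrecoverage G (trivAction G))
    (hB : B.base = SGA7.pt (K := k) K) (t : A.P ⟶ B.P) (ht : A.act.act ≫ t = (G ◁ t) ≫ B.act.act)
    (hc : IsPullback t A.π B.π (eqToHom hA ≫ EssDim.resPt K.val ≫ eqToHom hB.symm)) :
    ∃ (z : X.left) (K' : IntermediateField k L) (A' : QuotObj Scheme.fppfPrecoverage G aX) (h : A ⟶ A'),
      A'.base = SGA7.pt (K := k) K' ∧
      (QuotSt Scheme.fppfPrecoverage G aX).p.IsHomLift (EssDim.resPt K'.val) h ∧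
      Algebra.trdeg k K' ≤ Algebra.trdeg k K + (sdim X.hom z : Cardinal) := by
  obtain ⟨baseA, P, act, π, cart, loc, φ, eqv⟩ := A
  obtain ⟨baseB, P0, act0, π0, cart0, loc0, φ0, eqv0⟩ := B
  dsimp only at hA hB t ht hc ⊢
  subst hA hB
  simp only [eqToHom_refl, Category.id_comp, Category.comp_id, sp_resPt] at hc
  obtain ⟨M, _, _, _, _, _, p0, hp0⟩ := exists_finite_point π0 loc0
  -- the algebraically closed field
  let Ω := AlgebraicClosure L
  let jL : L →ₐ[k] Ω := IsScalarTower.toAlgHom k L Ω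
  haveI : Algebra.IsAlgebraic K M := Algebra.IsAlgebraic.of_finite K M
  let iM : M →ₐ[K] Ω := IsAlgClosed.lift
  let pΩ : SGA7.pt (K := k) Ω ⟶ P := hc.lift (sp (iM.restrictScalars k) ≫ p0) (sp jL) (by
    rw [Category.assoc, hp0, ← sp_comp, ← sp_comp]
    congr 1
    ext a
    exact iM.commutes a)
  obtain ⟨x0, iot, zx, hz⟩ := exists_residue (pΩ ≫ φ)
  letI := resAlg X.hom x0
  let C : IntermediateField k Ω := K.map jL ⊔ iot.fieldRange
  let E : IntermediateField k Ω := (algebraicClosure C Ω).restrictScalars k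
  haveI : IsAlgClosed E := (algebraicClosure.isAlgClosure C Ω).isAlgClosed
  have hCE : ∀ x ∈ C, x ∈ E := fun x hx => mem_algebraicClosure_iff.2 (isAlgebraic_algebraMap (⟨x, hx⟩ : C))
  let K' : IntermediateField k L := E.comap jL
  have hKK' : K ≤ K' := fun a ha => hCE _ ((le_sup_left : K.map jL ≤ C) ⟨a, ha, rfl⟩)
  have hMmem : ∀ m, iM m ∈ E := fun m => by
    have h1 : IsIntegral K (iM m) := (Algebra.IsIntegral.isIntegral m).map iM
    let iKC : K →+* C := (jL.toRingHom.comp K.toSubfield.subtype).codRestrict C.toSubfield.toSubring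
      fun a => (le_sup_left : K.map jL ≤ C) ⟨a, a.2, rfl⟩
    letI : Algebra K C := iKC.toAlgebra
    haveI : IsScalarTower K C Ω := IsScalarTower.of_algebraMap_eq fun _ => rfl
    exact mem_algebraicClosure_iff.2 (h1.tower_top (A := C)).isAlgebraic
  let iME : M →ₐ[k] E := (iM.restrictScalars k).codRestrict E.toSubalgebra hMmem
  let zE : SGA7.pt (K := k) E ⟶ X :=
    sp ((iot.codRestrict E.toSubalgebra fun a => hCE _ ((le_sup_right : iot.fieldRange ≤ C) ⟨a, rfl⟩)) :
      X.left.residueField x0 →ₐ[k] E) ≫ zx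
  have hzE : sp E.val ≫ zE = pΩ ≫ φ := by
    rw [← hz, ← Category.assoc, ← sp_comp]
    rfl
  -- the finite algebra over the field of definition
  letI : Algebra K K' := (IntermediateField.inclusion hKK').toRingHom.toAlgebra
  haveI : IsScalarTower k K K' := IsScalarTower.of_algebraMap_eq fun _ => rfl
  haveI : SMulCommClass K k K' := ⟨fun a b c => by simp only [Algebra.smul_def]; ring⟩
  let iKE : K' →+* E := (jL.toRingHom.comp K'.toSubfield.subtype).codRestrict E.toSubfield.toSubring fun a => a.2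
  letI : Algebra K' E := iKE.toAlgebra
  haveI : IsScalarTower k K' E := IsScalarTower.of_algebraMap_eq fun c => Subtype.ext (jL.commutes c).symm
  haveI : IsScalarTower K' E Ω := IsScalarTower.of_algebraMap_eq fun _ => rfl
  haveI : IsScalarTower K' L Ω := inferInstance
  let R := K' ⊗[K] M
  haveI : IsScalarTower k K' R := inferInstance
  let mR : M →ₐ[k] R := (Algebra.TensorProduct.includeRight : M →ₐ[K] R).restrictScalars k
  have hKM : ∀ a : K, mR (algebraMap K M a) = algebraMap K' R (algebraMap K K' a) := fun a => by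
    change (1 : K') ⊗ₜ[K] algebraMap K M a = algebraMap K K' a ⊗ₜ[K] (1 : M)
    rw [Algebra.algebraMap_eq_smul_one, Algebra.algebraMap_eq_smul_one, smul_tmul]
  have hkey : ∀ (N : Type u) [Field N] [Algebra k N] [Algebra K' N] [IsScalarTower k K' N] (a : K),
      (Algebra.TensorProduct.includeRight : R →ₐ[K'] N ⊗[K'] R) (mR (algebraMap K M a)) =
        algebraMap K' N (algebraMap K K' a) ⊗ₜ[K'] (1 : R) := by
    intro N _ _ _ _ a
    rw [hKM, AlgHom.commutes, Algebra.TensorProduct.algebraMap_apply]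
  let inL : R →ₐ[k] L ⊗[K'] R := (Algebra.TensorProduct.includeRight : R →ₐ[K'] L ⊗[K'] R).restrictScalars k
  let inE : R →ₐ[k] E ⊗[K'] R := (Algebra.TensorProduct.includeRight : R →ₐ[K'] E ⊗[K'] R).restrictScalars k
  let lL : L →ₐ[k] L ⊗[K'] R := Algebra.TensorProduct.includeLeft
  let lE : E →ₐ[k] E ⊗[K'] R := Algebra.TensorProduct.includeLeft
  let p : spO (k := k) (L ⊗[K'] R) ⟶ P := hc.lift (sp (inL.comp mR) ≫ p0) (sp lL) (by
    rw [Category.assoc, hp0, ← sp_comp, ← sp_comp]
    congr 1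
    ext a
    exact hkey L a)
  have hp1 : p ≫ t = sp (inL.comp mR) ≫ p0 := hc.lift_fst _ _ _
  have hp2 : p ≫ π = sp lL := hc.lift_snd _ _ _
  -- the two points over `E` differ by an element of the group
  have hwE : (sp (inE.comp mR) ≫ p0) ≫ π0 = (sp (lE.comp iME) ≫ p0) ≫ π0 := by
    rw [Category.assoc, Category.assoc, hp0, ← sp_comp, ← sp_comp]
    congr 1
    ext a
    refine (hkey E a).trans ?_
    change _ = (iME (algebraMap K M a)) ⊗ₜ[K'] (1 : R)
    congr 1
    exact Subtype.ext (iM.commutes a).symm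
  let gam : spO (k := k) (E ⊗[K'] R) ⟶ G ⊗ P0 :=
    cart0.lift (sp (inE.comp mR) ≫ p0) (sp (lE.comp iME) ≫ p0) hwE
  have hγ1 : gam ≫ act0.act = sp (inE.comp mR) ≫ p0 := cart0.lift_fst _ _ _
  have hγ2 : gam ≫ snd G P0 = sp (lE.comp iME) ≫ p0 := cart0.lift_snd _ _ _
  let y : spO (k := k) (E ⊗[K'] R) ⟶ X := lift (gam ≫ fst G P0) (sp lE ≫ zE) ≫ aX.act
  -- they agree over the algebraically closed field
  let cL : (L ⊗[K'] R) →ₐ[k] (Ω ⊗[K'] R) := (coefMap K' L Ω R).restrictScalars k
  let cE : (E ⊗[K'] R) →ₐ[k] (Ω ⊗[K'] R) := (coefMap K' E Ω R).restrictScalars k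
  have hagree : sp cL ≫ p ≫ φ = sp cE ≫ y := by
    let g := sp cE ≫ gam ≫ fst G P0
    let σ : spO (k := k) (Ω ⊗[K'] R) ⟶ P :=
      sp (Algebra.TensorProduct.includeLeft : Ω →ₐ[k] Ω ⊗[K'] R) ≫ pΩ
    let w : spO (k := k) (Ω ⊗[K'] R) ⟶ G ⊗ P := lift g σ
    have hl : sp cE ≫ sp lE = sp (Algebra.TensorProduct.includeLeft : Ω →ₐ[k] Ω ⊗[K'] R) ≫ sp E.val := by
      rw [← sp_comp, ← sp_comp]
      rfl
    have hσt : σ ≫ t = sp cE ≫ gam ≫ snd G P0 := by
      rw [hγ2, Category.assoc, hc.lift_fst, sp_comp, Category.assoc, reassoc_of% hl,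
        ← reassoc_of% (sp_comp iME E.val)]
      rfl
    have hw : w ≫ act.act = sp cL ≫ p := by
      apply hc.hom_ext
      · rw [Category.assoc, Category.assoc, ht, hp1, ← Category.assoc w]
        have e1 : w ≫ (G ◁ t) = sp cE ≫ gam := by
          apply CartesianMonoidalCategory.hom_ext
          · simp [w, g]
          · rw [Category.assoc, whiskerLeft_snd, lift_snd_assoc, hσt, Category.assoc]
        rw [e1, Category.assoc, hγ1, ← Category.assoc, ← Category.assoc, ← sp_comp, ← sp_comp]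
        rfl
      · rw [Category.assoc, cart.w, lift_snd_assoc, Category.assoc, Category.assoc, hc.lift_snd, hp2,
          ← sp_comp, ← sp_comp]
        rfl
    rw [← Category.assoc, ← hw, Category.assoc, eqv]
    change _ = sp cE ≫ lift (gam ≫ fst G P0) (sp lE ≫ zE) ≫ aX.act
    rw [← Category.assoc, ← Category.assoc]
    congr 1
    apply CartesianMonoidalCategory.hom_ext
    · simp [w, g]
    · rw [Category.assoc, whiskerLeft_snd, lift_snd_assoc, Category.assoc]
      refine Eq.trans ?_ ((Category.assoc _ _ _).trans (congrArg (sp cE ≫ ·) (lift_snd _ _))).symm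
      rw [reassoc_of% hl, hzE]
  obtain ⟨x', hx'⟩ := exists_factor (F := K') (L := L) (E := E) (Ω := Ω) (R := R)
    (fun a b hab => ⟨⟨a, show jL a ∈ E by
      change algebraMap L Ω a ∈ E
      rw [hab]; exact b.2⟩, rfl⟩)
    (p ≫ φ).left y.left (congrArg CommaMorphism.left hagree)
  have hRpr : IsPullback (sp inL) (sp lL) (sp (IsScalarTower.toAlgHom k K' R)) (sp K'.val) := by
    refine IsPullback.of_map (Over.forget _) ?_ ?_
    · rw [← sp_comp, ← sp_comp]
      congr 1
      ext a
      change (1 : L) ⊗ₜ[K'] algebraMap K' R a = algebraMap K' L a ⊗ₜ[K'] (1 : R)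
      rw [Algebra.algebraMap_eq_smul_one, Algebra.algebraMap_eq_smul_one, smul_tmul]
    · exact (isPullback_SpecMap_of_isPushout _ _ _ _ (CommRingCat.isPushout_tensorProduct K' L R)).flip
  haveI : Nontrivial R := (Algebra.TensorProduct.includeRight_injective (A := K') (B := M)
    (algebraMap K K').injective).nontrivial
  have hKL : IsFpqc (sp K'.val) := isFpqc_sp_of_field (K := K') (A := L)
  have hpr : IsFpqc (sp inL) := IsFpqc.of_isPullback hRpr hKL
  let xR : spO (k := k) R ⟶ X := Over.homMk x' (by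
    haveI : Flat (sp inL).left := hpr.1
    haveI : Surjective (sp inL).left := hpr.2.1
    haveI : QuasiCompact (sp inL).left := hpr.2.2
    rw [← cancel_epi (sp inL).left, Over.w (sp inL)]
    change Spec.map _ ≫ x' ≫ X.hom = _
    rw [← Category.assoc]
    exact (congrArg (· ≫ X.hom) hx').trans (Over.w (p ≫ φ)))
  have hxR : sp inL ≫ xR = p ≫ φ := Over.OverMorphism.ext hx'
  -- the descended torsor
  obtain ⟨B', h', hh'⟩ := exists_pullbackObj
    (⟨SGA7.pt (K := k) K, P0, act0, π0, cart0, loc0, φ0, eqv0⟩ : QuotObj Scheme.fppfPrecoverage G (trivAction G))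
    (sp (IntermediateField.inclusion hKK'))
  have hb' : B'.base = SGA7.pt (K := k) K' := IsHomLift.domain_eq (QuotSt Scheme.fppfPrecoverage G (trivAction G)).p
    (sp (IntermediateField.inclusion hKK')) h'
  obtain ⟨b', P', act', π', cart', loc', φ'', eqv''⟩ := B'
  dsimp only at hb'
  subst hb'
  have hbase : h'.base = sp (IntermediateField.inclusion hKK') :=
    (IsHomLift.eq_of_isHomLift (QuotSt Scheme.fppfPrecoverage G (trivAction G)).p _ h').symm
  have hc' : IsPullback h'.top π' π0 (sp (IntermediateField.inclusion hKK')) := hbase ▸ h'.cart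
  have he' : act'.act ≫ h'.top = (G ◁ h'.top) ≫ act0.act := h'.eqv
  let t' : P ⟶ P' := hc'.lift t (π ≫ sp K'.val) (by
    rw [hc.w, Category.assoc, ← sp_comp]
    rfl)
  have ht'1 : t' ≫ h'.top = t := hc'.lift_fst _ _ _
  have ht'2 : t' ≫ π' = π ≫ sp K'.val := hc'.lift_snd _ _ _
  have hct' : IsPullback t' π π' (sp K'.val) := by
    refine IsPullback.of_right ?_ ht'2 hc'
    rw [ht'1, ← sp_comp]
    exact hc
  have het' : act.act ≫ t' = (G ◁ t') ≫ act'.act := by
    apply hc'.hom_ext
    · rw [Category.assoc, ht'1, ht, Category.assoc, he', ← MonoidalCategory.whiskerLeft_comp_assoc, ht'1]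
    · rw [Category.assoc, ht'2, reassoc_of% cart.w, Category.assoc, cart'.w, whiskerLeft_snd_assoc, ht'2]
  let p' : spO (k := k) R ⟶ P' := hc'.lift (sp mR ≫ p0) (sp (IsScalarTower.toAlgHom k K' R)) (by
    rw [Category.assoc, hp0, ← sp_comp, ← sp_comp]
    congr 1
    ext a
    exact hKM a)
  have hp'1 : p' ≫ h'.top = sp mR ≫ p0 := hc'.lift_fst _ _ _
  have hp'2 : p' ≫ π' = sp (IsScalarTower.toAlgHom k K' R) := hc'.lift_snd _ _ _
  have hpp : sp inL ≫ p' = p ≫ t' := by
    apply hc'.hom_ext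
    · rw [Category.assoc, Category.assoc, ht'1, hp1, hp'1, sp_comp, Category.assoc]
    · rw [Category.assoc, Category.assoc, ht'2, reassoc_of% hp2, hp'2, hRpr.w]
  have hu' : IsFpqc ((G ◁ p') ≫ act'.act) := by
    refine IsFpqc.of_isPullback ((isPullback_whiskerLeft p').paste_horiz cart') ?_
    rw [hp'2]
    exact isFpqc_sp_of_field
  have hu : IsFpqc ((G ◁ p) ≫ act.act) := by
    refine IsFpqc.of_isPullback ((isPullback_whiskerLeft p).paste_horiz cart) ?_
    rw [hp2]
    haveI : Nontrivial (L ⊗[K'] R) := (Algebra.TensorProduct.includeRight_injective (A := L) (B := R)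
      (algebraMap K' L).injective).nontrivial
    exact isFpqc_sp_of_field (K := L) (A := L ⊗[K'] R)
  have hsq : ((G ◁ sp inL) ≫ (G ◁ p') ≫ act'.act) = ((G ◁ p) ≫ act.act) ≫ t' := by
    rw [← MonoidalCategory.whiskerLeft_comp_assoc, hpp, Category.assoc, het',
      MonoidalCategory.whiskerLeft_comp_assoc]
  have hψ : (G ◁ sp inL) ≫ (G ◁ xR) ≫ aX.act = ((G ◁ p) ≫ act.act) ≫ φ := by
    rw [← MonoidalCategory.whiskerLeft_comp_assoc, hxR, Category.assoc, eqv,
      MonoidalCategory.whiskerLeft_comp_assoc]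
  obtain ⟨φ', hφ'⟩ := hu'.exists_desc ((G ◁ xR) ≫ aX.act) fun Z a b hab => by
    let ρ := pullback.fst (a ≫ (G ◁ p') ≫ act'.act) t'
    let q := pullback.snd (a ≫ (G ◁ p') ≫ act'.act) t'
    have hρ : IsFpqc ρ := IsFpqc.of_isPullback (IsPullback.of_hasPullback _ _)
      (IsFpqc.of_isPullback hct' hKL)
    refine hρ.cancel ?_
    have hw : ∀ c : Z ⟶ G ⊗ spO (k := k) R, c ≫ (G ◁ p') ≫ act'.act = a ≫ (G ◁ p') ≫ act'.act →
        ρ ≫ c ≫ (G ◁ xR) ≫ aX.act = q ≫ φ := by
      intro c hcc
      have h1 : ρ ≫ c ≫ (G ◁ p') ≫ act'.act = q ≫ t' := by rw [hcc]; exact pullback.condition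
      have h2 : (ρ ≫ c ≫ snd G _) ≫ sp (IsScalarTower.toAlgHom k K' R) = (q ≫ π) ≫ sp K'.val := by
        rw [Category.assoc q, ← ht'2, ← reassoc_of% h1, cart'.w, whiskerLeft_snd_assoc, hp'2]
        simp only [Category.assoc]
      let τ := hRpr.lift (ρ ≫ c ≫ snd G _) (q ≫ π) h2
      let d := (isPullback_whiskerLeft (G := G) (sp inL)).lift (ρ ≫ c) τ (by
        rw [Category.assoc]; exact (hRpr.lift_fst _ _ h2).symm)
      have hd1 : d ≫ (G ◁ sp inL) = ρ ≫ c := IsPullback.lift_fst _ _ _ _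
      have hd2 : d ≫ snd G _ = τ := IsPullback.lift_snd _ _ _ _
      have hd : d ≫ (G ◁ p) ≫ act.act = q := by
        apply hct'.hom_ext
        · rw [Category.assoc, ← hsq, reassoc_of% hd1]
          exact h1
        · rw [Category.assoc, Category.assoc, cart.w, whiskerLeft_snd_assoc, hp2, reassoc_of% hd2]
          exact hRpr.lift_snd _ _ h2
      refine ((reassoc_of% hd1) _).symm.trans ?_
      refine (congrArg (d ≫ ·) hψ).trans ?_
      exact (Category.assoc _ _ _).symm.trans (congrArg (· ≫ φ) hd)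
    rw [hw a rfl, hw b hab.symm]
  have hφt : t' ≫ φ' = φ := by
    refine hu.cancel ?_
    rw [← Category.assoc, ← hsq, Category.assoc, hφ', hψ]
  have heq' : act'.act ≫ φ' = (G ◁ φ') ≫ aX.act := by
    have hGt : IsFpqc (G ◁ t') :=
      IsFpqc.of_isPullback (isPullback_whiskerLeft t') (IsFpqc.of_isPullback hct' hKL)
    refine hGt.cancel ?_
    rw [← reassoc_of% het', hφt, eqv, ← MonoidalCategory.whiskerLeft_comp_assoc, hφt]
  let A' : QuotObj Scheme.fppfPrecoverage G aX :=
    ⟨SGA7.pt (K := k) K', P', act', π', cart', loc', φ', heq'⟩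
  let h : (⟨SGA7.pt (K := k) L, P, act, π, cart, loc, φ, eqv⟩ : QuotObj Scheme.fppfPrecoverage G aX) ⟶ A' :=
    ⟨sp K'.val, t', het', hct', hφt⟩
  refine ⟨x0, K', A', h, rfl, IsHomLift.map (QuotSt Scheme.fppfPrecoverage G aX).p h, ?_⟩
  let iK'E : K' →ₐ[k] E := IsScalarTower.toAlgHom k K' E
  refine (trdeg_le_of_injective iK'E (RingHom.injective _)).trans ?_
  refine (trdeg_algebraicClosure_sup_le _ _).trans (add_le_add ?_ ?_)
  · exact (IntermediateField.equivMap K jL).trdeg_eq.symm.le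
  · rw [← trdeg_residueField X.hom x0]
    exact (AlgEquiv.ofInjectiveField iot).trdeg_eq.symm.le

theorem edSt_quotSt_le [FibCat.IsFibGrpd (QuotSt Scheme.fppfPrecoverage G aX).p]
    [FibCat.IsFibGrpd (BG Scheme.fppfPrecoverage G).p] :
    EssDim.edSt (QuotSt Scheme.fppfPrecoverage G aX) ≤
      EssDim.edSt (BG Scheme.fppfPrecoverage G) + (topologicalKrullDim (X.left : Type u) : WithBot ℕ∞) := by
  refine iSup_le fun L => iSup_le fun _ => iSup_le fun _ => iSup_le fun ξ => ?_
  obtain ⟨⟨A, hA⟩, rfl⟩ := Quot.exists_rep ξ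
  let A₀ : QuotObj Scheme.fppfPrecoverage G (trivAction G) :=
    ⟨A.base, A.P, A.act, A.π, A.cart, A.loc, toUnit _, toUnit_unique _ _⟩
  let x₀ : StkCnt.pts (BG Scheme.fppfPrecoverage G) L := ⟨A₀, hA⟩
  let P₀ := Gerb.isoClPsh (BG Scheme.fppfPrecoverage G)
  have key : ∀ K : {K : IntermediateField k L // EssDim.Descends P₀ (Quot.mk _ x₀) K}, ∃ z : X.left,
      EssDim.edAt (Gerb.isoClPsh (QuotSt Scheme.fppfPrecoverage G aX)) (Quot.mk _ ⟨A, hA⟩) ≤
        Cardinal.toENat (Algebra.trdeg k K.1) + (sdim X.hom z : ℕ∞) := by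
    rintro ⟨K, hK⟩
    obtain ⟨⟨B, hB⟩, ψ, hψ⟩ := (EssDim.descends_isoCl_iff _ x₀ K).1 hK
    have hbase : ψ.base = eqToHom hA ≫ EssDim.resPt K.val ≫ eqToHom hB.symm :=
      IsHomLift.fac' (QuotSt Scheme.fppfPrecoverage G (trivAction G)).p (EssDim.resPt K.val) ψ
    obtain ⟨z, K', A', h, hA', hlift, htr⟩ :=
      exists_descended A hA K B hB ψ.top ψ.eqv (hbase ▸ ψ.cart)
    refine ⟨z, (EssDim.edAt_le_of_descends
      ((EssDim.descends_isoCl_iff _ ⟨A, hA⟩ K').2 ⟨⟨A', hA'⟩, h, hlift⟩)).trans ?_⟩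
    refine (OrderHomClass.mono Cardinal.toENat htr).trans ?_
    rw [_root_.map_add, Cardinal.toENat_nat]
  haveI : Nonempty {K : IntermediateField k L // EssDim.Descends P₀ (Quot.mk _ x₀) K} :=
    ⟨⟨⊤, EssDim.descends_top _⟩⟩
  obtain ⟨K₀, hK₀⟩ := ENat.exists_eq_iInf
    fun K : {K : IntermediateField k L // EssDim.Descends P₀ (Quot.mk _ x₀) K} =>
      Cardinal.toENat (Algebra.trdeg k K.1)
  obtain ⟨z, hz⟩ := key K₀
  have hz' : EssDim.edAt (Gerb.isoClPsh (QuotSt Scheme.fppfPrecoverage G aX)) (Quot.mk _ ⟨A, hA⟩) ≤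
      EssDim.edAt P₀ (Quot.mk _ x₀) + (sdim X.hom z : ℕ∞) := hz.trans (add_le_add hK₀.le le_rfl)
  refine le_trans (WithBot.coe_le_coe.mpr hz') ?_
  rw [WithBot.coe_add]
  refine add_le_add (EssDim.edAt_le_ed _) ?_
  rw [dim_eq_iSup_sdim X.hom]
  exact le_iSup_of_le z le_rfl

end Main

end Groth.Agent.EssDim28
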